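import Groth.Agent.Coherent.FibreVanish
import Groth.Agent.Coherent.CohOps
import Groth.Agent.CAlgH3.ModCohSeq
import Groth.Agent.SubAvoid14.IdealMul
import Groth.Agent.H0Growth23.GenFinite
import Groth.Agent.CurveRR24.RR
import Groth.Agent.S1666
import Groth.Agent.CAlgH.RegImmStalk
import Groth.Agent.EGA43.DimFormula.DenseOpen
import Groth.Agent.EGA43.DimFormula.LocalDimJacobson
import Groth.Agent.EGA43.RectDepthJacobson
import Groth.Agent.VarietyLib.SmoothStalk
import Groth.Prelude.Def_ClSub2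

/-!
# `H¹(O)` along finite maps which are closed immersions over a dense open of a curve
-/

set_option autoImplicit false
set_option linter.style.haveILetI false
set_option backward.isDefEq.respectTransparency.types false
set_option maxHeartbeats 1000000

universe u

open CategoryTheory CategoryTheory.Limits AlgebraicGeometry Opposite TopologicalSpace
open Groth.Agent.Coherent Groth.Agent.EulerLib Groth.Agent.CAlgH3.ModCohSeq

namespace Groth.Agent.Hyper24

variable (k : Type u) [Field k] {X : Scheme.{u}} [X.Over (Spec (CommRingCat.of k))]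
  [IsProper (X ↘ Spec (CommRingCat.of k))]

theorem finrank_h1_right_le {S : ShortComplex X.Modules} (hS : S.ShortExact) (h1 : V S.X₁ 2)
    (h2 : Coh.IsCoh S.X₂) :
    Module.finrank k (Coh.HH X S.X₃ 1) ≤ Module.finrank k (Coh.HH X S.X₂ 1) := by
  haveI := CurveRR24.finite_HH_of_isCoh k h2 1
  haveI : Module.Finite k (HA (baseHom k X) S.X₂ (⊤ : X.Opens) 1) := Module.Finite.equiv (HHBaseEquiv k S.X₂ 1)
  rw [(HHBaseEquiv k S.X₂ 1).finrank_eq, (HHBaseEquiv k S.X₃ 1).finrank_eq]
  haveI a : Subsingleton (HA (baseHom k X) S.X₁ (⊤ : X.Opens) 2) := (V_iff_HMod _ 2).1 h1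
  exact LinearMap.finrank_le_finrank_of_surjective (f := postA (baseHom k X) S.g (⊤ : X.Opens) 1) fun x =>
    (exact_postA_deltaA (baseHom k X) hS ⊤ 1 x).1 (Subsingleton.elim _ _)

theorem finrank_h1_mid_le {S : ShortComplex X.Modules} (hS : S.ShortExact) (h3 : V S.X₃ 1)
    (h1 : Coh.IsCoh S.X₁) :
    Module.finrank k (Coh.HH X S.X₂ 1) ≤ Module.finrank k (Coh.HH X S.X₁ 1) := by
  haveI := CurveRR24.finite_HH_of_isCoh k h1 1
  haveI : Module.Finite k (HA (baseHom k X) S.X₁ (⊤ : X.Opens) 1) := Module.Finite.equiv (HHBaseEquiv k S.X₁ 1)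
  rw [(HHBaseEquiv k S.X₁ 1).finrank_eq, (HHBaseEquiv k S.X₂ 1).finrank_eq]
  haveI a : Subsingleton (HA (baseHom k X) S.X₃ (⊤ : X.Opens) 1) := (V_iff_HMod _ 1).1 h3
  exact LinearMap.finrank_le_finrank_of_surjective (f := postA (baseHom k X) S.f (⊤ : X.Opens) 1) fun x =>
    (exact_postA (baseHom k X) hS ⊤ 1 x).1 (Subsingleton.elim _ _)

/-- The image factorisation as two short exact sequences. -/
theorem exists_image_ses {M N : X.Modules} (φ : M ⟶ N) :
    ∃ (I : X.Modules) (p : M ⟶ I) (i : I ⟶ N) (w₁ : kernel.ι φ ≫ p = 0) (w₂ : i ≫ cokernel.π φ = 0),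
      p ≫ i = φ ∧ (ShortComplex.mk (kernel.ι φ) p w₁).ShortExact ∧
      (ShortComplex.mk i (cokernel.π φ) w₂).ShortExact ∧ Nonempty (I ≅ Abelian.image φ) := by
  have w₁ : kernel.ι φ ≫ Abelian.factorThruImage φ = 0 := by
    rw [← cancel_mono (Abelian.image.ι φ), Category.assoc, Abelian.image.fac, kernel.condition, zero_comp]
  refine ⟨_, Abelian.factorThruImage φ, Abelian.image.ι φ, w₁, kernel.condition _, Abelian.image.fac φ,
    { exact := ?_, mono_f := inferInstanceAs (Mono (kernel.ι φ)),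
      epi_g := inferInstanceAs (Epi (Abelian.factorThruImage φ)) },
    { exact := ShortComplex.exact_kernel (cokernel.π φ), mono_f := inferInstanceAs (Mono (Abelian.image.ι φ)),
      epi_g := inferInstanceAs (Epi (cokernel.π φ)) }, ⟨Iso.refl _⟩⟩
  refine ShortComplex.exact_of_f_is_kernel _ ?_
  exact KernelFork.IsLimit.ofι' _ _ fun {Z} g hg =>
    ⟨kernel.lift φ g (by rw [← Abelian.image.fac φ, reassoc_of% hg, zero_comp]), kernel.lift_ι _ _ _⟩

theorem isCoh_of_epi' [IsLocallyNoetherian X] {M I : X.Modules} (p : M ⟶ I) (hp : Epi p) (hM : Coh.IsCoh M)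
    (hI : Coh.IsQCoh I) : Coh.IsCoh I :=
  haveI := hp
  AssSch12.isCoh_of_epi _ p hI (locallyFinGen_of_isFT _ hM.2)

/-- A map which is surjective off a finite closed set is surjective on `H¹`, numerically. -/
theorem finrank_h1_le_of_finite_cokernel (hdim : topologicalKrullDim X ≤ 1) {M N : X.Modules} (φ : M ⟶ N)
    (hM : Coh.IsCoh M) (hN : Coh.IsCoh N) {Z : Set X} (hZ : Z.Finite) (hc : ∀ z ∈ Z, IsClosed ({z} : Set X))
    (hsupp : CohB1.support (cokernel φ) ⊆ Z) :
    Module.finrank k (Coh.HH X N 1) ≤ Module.finrank k (Coh.HH X M 1) := by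
  haveI := CurveRR24.isLocallyNoetherian_of_proper k (X := X)
  obtain ⟨I, p, i, w₁, w₂, -, hS₁, hS₂, ⟨eI⟩⟩ := exists_image_ses φ
  haveI := hM.1
  haveI := hN.1
  have hq : Coh.IsQCoh I := (SheafOfModules.isQuasicoherent X.ringCatSheaf).prop_of_iso eI.symm (isQCoh_image φ)
  have hI : Coh.IsCoh I := isCoh_of_epi' p hS₁.epi_g hM hq
  have e3 : V (cokernel φ) 1 := subsingleton_HH_of_support_finite (cokernel φ) Z hZ hc hsupp 1 one_pos
  have e1 : V (kernel φ) 2 := CurveRR24.subsingleton_HH_ge_two k hdim (kernel φ) (isQCoh_kernel φ) one_lt_two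
  have l2 := finrank_h1_mid_le k (S := ShortComplex.mk i (cokernel.π φ) w₂) hS₂ e3 hI
  have l1 := finrank_h1_right_le k (S := ShortComplex.mk (kernel.ι φ) p w₁) hS₁ e1 hM
  exact le_trans l2 l1

include k in
/-- The complement of a dense open of a curve is a finite set of closed points. -/
theorem finite_compl_dense (hdim : topologicalKrullDim X ≤ 1) {U : X.Opens} (hU : Dense (U : Set X)) :
    (U : Set X)ᶜ.Finite ∧ ∀ z ∈ (U : Set X)ᶜ, IsClosed ({z} : Set X) :=
  S1666.compl_finite_closed_points k hdim U hU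

/-- Over the locus where `f` is a closed immersion, `O_X → f_*O` is surjective. -/
theorem support_cokernel_unitToPush {Y : Scheme.{u}} (f : Y ⟶ X) {U : X.Opens}
    (hfU : IsClosedImmersion (f ∣_ U)) :
    CohB1.support (cokernel (ClSub.unitToPush f)) ⊆ (U : Set X)ᶜ := by
  refine SubAvoid14.support_cokernel_subset _ fun z hz a => ?_
  have hzU : z ∈ U := not_not.mp hz
  obtain ⟨O, hzO, s, rfl⟩ := ((Scheme.Modules.pushforward f).obj (Coh.structureModule Y)).presheaf.exists_germ_eq a
  obtain ⟨W, hW, hzW, hWle⟩ := exists_isAffineOpen_mem_and_subset (x := z) (U := O ⊓ U) ⟨hzO, hzU⟩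
  haveI := hfU
  haveI : IsClosedImmersion (f ∣_ W) := by
    have h : IsClosedImmersion (f ∣_ U ∣_ (U.ι ⁻¹ᵁ W)) := IsZariskiLocalAtTarget.restrict hfU _
    rw [MorphismProperty.arrow_mk_iso_iff @IsClosedImmersion (morphismRestrictRestrict f U (U.ι ⁻¹ᵁ W))] at h
    rwa [Scheme.Hom.image_preimage_eq_opensRange_inf, Scheme.Opens.opensRange_ι,
      inf_eq_right.mpr (fun x hx => (hWle hx).2)] at h
  obtain ⟨r, hr⟩ := CAlgH.RegImmStalk.app_surjective_of_restrict f hW
    (((Scheme.Modules.pushforward f).obj (Coh.structureModule Y)).presheaf.map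
      (homOfLE (fun x hx => (hWle hx).1 : W ≤ O)).op s)
  refine ⟨(Coh.structureModule X).presheaf.germ W z hzW r, ?_⟩
  refine (stalk_map_germ (ClSub.unitToPush f) hzW r).trans ?_
  rw [show (ClSub.unitToPush f).app W r = _ from hr]
  exact TopCat.Presheaf.germ_res_apply _ _ _ _ _

variable {Y : Scheme.{u}} [Y.Over (Spec (CommRingCat.of k))]

include k in
theorem isCoh_push_structure (f : Y ⟶ X) [IsFinite f] : Coh.IsCoh ((Coh.push f).obj (Coh.structureModule Y)) := by
  haveI := CurveRR24.isLocallyNoetherian_of_proper k (X := X)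
  haveI : IsLocallyNoetherian Y := LocallyOfFiniteType.isLocallyNoetherian f
  exact isCoh_push_finite f (isCoh_structureModule Y)

theorem genus_le_of_finite (hdim : topologicalKrullDim X ≤ 1) (f : Y ⟶ X) [IsFinite f]
    (hf : f ≫ (X ↘ Spec (CommRingCat.of k)) = Y ↘ Spec (CommRingCat.of k)) {U : X.Opens}
    (hU : Dense (U : Set X)) (hfU : IsClosedImmersion (f ∣_ U)) : Curv2.genus k Y ≤ Curv2.genus k X := by
  haveI := CurveRR24.isLocallyNoetherian_of_proper k (X := X)
  haveI : IsLocallyNoetherian Y := LocallyOfFiniteType.isLocallyNoetherian f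
  haveI : Coh.IsQCoh (Coh.structureModule Y) := (isCoh_structureModule Y).1
  obtain ⟨hZ, hc⟩ := finite_compl_dense k hdim hU
  show Module.finrank k (Coh.HH Y (Coh.structureModule Y) 1) ≤ _
  rw [H0Growth23.finrank_HH_push k f hf _ (acyclicOverBasis_affine f _) 1]
  exact finrank_h1_le_of_finite_cokernel k hdim (ClSub.unitToPush f) (isCoh_structureModule X)
    (isCoh_push_structure k f) hZ hc (support_cokernel_unitToPush f hfU)

open Groth.Agent.EGA43.DimFormula in
include k in
theorem dim_le_of_isIso_restrict (hdim : topologicalKrullDim X ≤ 1) (f : Y ⟶ X) [IsProper f] {U : X.Opens}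
    (hU' : Dense ((f ⁻¹ᵁ U : Y.Opens) : Set Y)) (hfU : IsIso (f ∣_ U)) : topologicalKrullDim Y ≤ 1 := by
  haveI := hfU
  let p : Y ⟶ Spec (CommRingCat.of k) := f ≫ (X ↘ Spec (CommRingCat.of k))
  haveI : LocallyOfFiniteType p := inferInstanceAs (LocallyOfFiniteType (f ≫ _))
  haveI : IsLocallyNoetherian Y := LocallyOfFiniteType.isLocallyNoetherian p
  haveI : JacobsonSpace Y := LocallyOfFiniteType.jacobsonSpace p
  have h2 : ∀ s : Spec (CommRingCat.of k), CAlg.IsUniversallyCatenary ((Spec (CommRingCat.of k)).presheaf.stalk s) :=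
    EGA43.RectDepth.isUniversallyCatenary_stalk fun s =>
      VarietyLib.isRegularLocalRing_stalk_of_smooth k (Spec (CommRingCat.of k)) (𝟙 _) s
  haveI : Subsingleton (Spec (CommRingCat.of k)) := inferInstanceAs (Subsingleton (PrimeSpectrum k))
  have h3 : ∀ S' ∈ irreducibleComponents (Spec (CommRingCat.of k) : Type u), ∀ s ∈ S', IsClosed ({s} : Set (Spec (CommRingCat.of k))) →
      topologicalKrullDim (↥S' : Type u) = topologicalKrullDim ↥{t : Spec (CommRingCat.of k) | t ∈ S' ∧ t ⤳ s} := by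
    intro S' _ s hs _
    rw [show {t : Spec (CommRingCat.of k) | t ∈ S' ∧ t ⤳ s} = S' from
      Set.ext fun t => ⟨fun h => h.1, fun h => ⟨h, (Subsingleton.elim t s) ▸ specializes_rfl⟩⟩]
  have hY3 : ∀ Y' ∈ irreducibleComponents (Y : Type u), ∀ y ∈ Y', IsClosed ({y} : Set Y) →
      topologicalKrullDim (↥Y' : Type u) = topologicalKrullDim ↥{t : Y | t ∈ Y' ∧ t ⤳ y} := by
    intro Y' hY' y hy hyc
    obtain ⟨η, hη⟩ := QuasiSober.sober hY'.1 (isClosed_of_mem_irreducibleComponents Y' hY')
    rw [show {t : Y | t ∈ Y' ∧ t ⤳ y} = {t : Y | η ⤳ t ∧ t ⤳ y} from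
      Set.ext fun t => and_congr_left fun _ => hη.specializes_iff_mem.symm,
      interval_eq_cod (hη.specializes_iff_mem.2 hy)]
    have h := dim_closure_lft h2 h3 p (hη.specializes_iff_mem.2 hy) hyc
    rw [hη.def] at h
    exact h
  rw [← dim_eq_of_dense_open Y hY3 _ (f ⁻¹ᵁ U).2 hU']
  calc topologicalKrullDim ↥((f ⁻¹ᵁ U : Y.Opens) : Set Y) = topologicalKrullDim (↥(U : Set X) : Type u) :=
        IsHomeomorph.topologicalKrullDim_eq _ (f ∣_ U).homeomorph.isHomeomorph
    _ ≤ 1 := (topologicalKrullDim_subspace_le X (U : Set X)).trans hdim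

include k in
/-- A proper map which is an isomorphism over a dense open with dense preimage is finite, in dimension one. -/
theorem isFinite_of_isIso_restrict (hdim : topologicalKrullDim X ≤ 1) (f : Y ⟶ X) [IsProper f] {U : X.Opens}
    (hU : Dense (U : Set X)) (hU' : Dense ((f ⁻¹ᵁ U : Y.Opens) : Set Y)) (hfU : IsIso (f ∣_ U))
    (hf : f ≫ (X ↘ Spec (CommRingCat.of k)) = Y ↘ Spec (CommRingCat.of k)) : IsFinite f := by
  haveI := hfU
  haveI : IsProper (Y ↘ Spec (CommRingCat.of k)) := hf ▸ inferInstance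
  have hdY : topologicalKrullDim Y ≤ 1 := dim_le_of_isIso_restrict k hdim f hU' hfU
  obtain ⟨hZ, hc⟩ := finite_compl_dense k (X := Y) hdY hU'
  haveI : LocallyQuasiFinite f := LocallyQuasiFinite.of_finite_preimage_singleton f fun x => by
    by_cases hx : x ∈ U
    · refine Set.Subsingleton.finite fun a ha b hb => ?_
      exact S1666.injective_of_isIso_restrict f U (show f a ∈ U from (show f a = x from ha).symm ▸ hx)
        (show f b ∈ U from (show f b = x from hb).symm ▸ hx)
        ((show f a = x from ha).trans (show f b = x from hb).symm)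
    · exact hZ.subset fun a ha hmem => hx ((show f a = x from ha) ▸ hmem)
  exact IsFinite.of_isProper_of_locallyQuasiFinite f

end Groth.Agent.Hyper24
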