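import Groth.Agent.Hyper24.Pencil
import Groth.Agent.CurveRR24.TwoAffineH1
import Groth.Agent.VarietyLib.PointComplement
import Groth.Agent.CurveLib.Basic
import Mathlib.RingTheory.Trace.Basic

/-!
# First cohomology of a separable finite cover surjects onto that of the base by traces
-/

set_option autoImplicit false
set_option linter.style.haveILetI false
set_option linter.unusedSectionVars false
set_option backward.isDefEq.respectTransparency.types false
set_option maxHeartbeats 1000000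

universe u

open CategoryTheory CategoryTheory.Limits AlgebraicGeometry Opposite TopologicalSpace
open Groth.Agent.Coherent Groth.Agent.CurveRR24

namespace Groth.Agent.Hyper24

attribute [local instance] Curv2.stalkAlgebra

section Field

variable {X Y : Scheme.{u}} [IsIntegral X] [IsIntegral Y] (f : X ⟶ Y)
  (e : f (genericPoint X) = genericPoint Y)

/-- A finite dominant morphism gives a finite extension of function fields. -/
theorem finiteDimensional_ffMap [IsFinite f] :
    letI := (ffMap f e).toAlgebra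
    FiniteDimensional Y.functionField X.functionField := by
  letI := (ffMap f e).toAlgebra
  obtain ⟨W, hW, hηW, -⟩ := exists_isAffineOpen_mem_and_subset (x := genericPoint Y) (U := (⊤ : Y.Opens)) trivial
  have hη : genericPoint X ∈ f ⁻¹ᵁ W := by show f (genericPoint X) ∈ W; rw [e]; exact hηW
  haveI : Nonempty W := ⟨⟨_, hηW⟩⟩
  haveI : Nonempty (f ⁻¹ᵁ W) := ⟨⟨_, hη⟩⟩
  have hV : IsAffineOpen (f ⁻¹ᵁ W) := hW.preimage f
  haveI := functionField_isFractionRing_of_isAffineOpen X _ hV
  haveI := functionField_isFractionRing_of_isAffineOpen Y _ hW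
  letI algAB : Algebra Γ(Y, W) Γ(X, f ⁻¹ᵁ W) := (f.app W).hom.toAlgebra
  letI algAL : Algebra Γ(Y, W) X.functionField :=
    ((algebraMap Γ(X, f ⁻¹ᵁ W) X.functionField).comp (f.app W).hom).toAlgebra
  haveI : IsScalarTower Γ(Y, W) Γ(X, f ⁻¹ᵁ W) X.functionField := IsScalarTower.of_algebraMap_eq fun _ => rfl
  haveI : IsScalarTower Γ(Y, W) Y.functionField X.functionField :=
    IsScalarTower.of_algebraMap_eq fun a => (ffMap_germ f e hηW a hη).symm
  haveI : Module.Finite Γ(Y, W) Γ(X, f ⁻¹ᵁ W) := IsFinite.finite_app f W hW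
  haveI : FaithfulSMul Γ(Y, W) Γ(X, f ⁻¹ᵁ W) := (faithfulSMul_iff_algebraMap_injective _ _).mpr fun a b hab =>
    IsFractionRing.injective Γ(Y, W) Y.functionField ((ffMap f e).injective (by
      exact ((ffMap_germ f e hηW a hη).trans (congrArg (algebraMap Γ(X, f ⁻¹ᵁ W) X.functionField) hab)).trans
        (ffMap_germ f e hηW b hη).symm))
  haveI : Algebra.IsAlgebraic Γ(Y, W) Γ(X, f ⁻¹ᵁ W) := Algebra.IsIntegral.isAlgebraic
  exact Module.Finite.of_isLocalizedModule (nonZeroDivisors Γ(Y, W))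
    (IsScalarTower.toAlgHom Γ(Y, W) Γ(X, f ⁻¹ᵁ W) X.functionField).toLinearMap

variable [Algebra Y.functionField X.functionField] [FiniteDimensional Y.functionField X.functionField]
  (hmap : algebraMap Y.functionField X.functionField = ffMap f e)

include hmap

/-- Traces of sections are sections. -/
theorem trace_mem_range_germ [IsFinite f] (hnY : Pi1.IsNormalScheme Y) {O : Y.Opens} (hO : IsAffineOpen O)
    (hη : genericPoint Y ∈ O) (hη' : genericPoint X ∈ f ⁻¹ᵁ O) (z : Γ(X, f ⁻¹ᵁ O)) :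
    Algebra.trace Y.functionField X.functionField (X.presheaf.germ _ _ hη' z) ∈
      Set.range (Y.presheaf.germ O _ hη) := by
  haveI : Nonempty O := ⟨⟨_, hη⟩⟩
  haveI : Nonempty (f ⁻¹ᵁ O) := ⟨⟨_, hη'⟩⟩
  haveI := functionField_isFractionRing_of_isAffineOpen Y _ hO
  haveI := NormalExtLib.isIntegrallyClosed_sections hnY O hO
  letI algAB : Algebra Γ(Y, O) Γ(X, f ⁻¹ᵁ O) := (f.app O).hom.toAlgebra
  letI algAL : Algebra Γ(Y, O) X.functionField :=
    ((algebraMap Γ(X, f ⁻¹ᵁ O) X.functionField).comp (f.app O).hom).toAlgebra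
  haveI : IsScalarTower Γ(Y, O) Γ(X, f ⁻¹ᵁ O) X.functionField := IsScalarTower.of_algebraMap_eq fun _ => rfl
  haveI : IsScalarTower Γ(Y, O) Y.functionField X.functionField :=
    IsScalarTower.of_algebraMap_eq fun a => by rw [hmap]; exact (ffMap_germ f e hη a hη').symm
  haveI : Module.Finite Γ(Y, O) Γ(X, f ⁻¹ᵁ O) := IsFinite.finite_app f O hO
  have hz : IsIntegral Γ(Y, O) (algebraMap Γ(X, f ⁻¹ᵁ O) X.functionField z) :=
    (Algebra.IsIntegral.isIntegral (R := Γ(Y, O)) z).map (IsScalarTower.toAlgHom Γ(Y, O) Γ(X, f ⁻¹ᵁ O) X.functionField)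
  obtain ⟨y, hy⟩ := (IsIntegrallyClosed.isIntegral_iff (R := Γ(Y, O)) (K := Y.functionField)).mp
    (Algebra.isIntegral_trace (L := Y.functionField) hz)
  exact ⟨y, hy⟩

/-- Traces against independent elements are jointly surjective. -/
theorem trace_mul_surjective [Algebra.IsSeparable Y.functionField X.functionField] {a : ℕ}
    {c : Fin a → X.functionField} (hind : LinearIndependent Y.functionField c) :
    Function.Surjective (LinearMap.pi fun i =>
      (Algebra.trace Y.functionField X.functionField).comp (LinearMap.mulLeft Y.functionField (c i))) := by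
  classical
  rw [← LinearMap.range_eq_top]
  by_contra hne
  obtain ⟨φ, hφ0, hφ⟩ := Submodule.exists_dual_map_eq_bot_of_lt_top (lt_top_iff_ne_top.2 hne) inferInstance
  apply hφ0
  have hsum : ∀ z, ∑ i, φ (Pi.single i 1) * Algebra.trace Y.functionField X.functionField (c i * z) = 0 := by
    intro z
    have hz := (Submodule.eq_bot_iff _).1 hφ _ (Submodule.mem_map_of_mem (LinearMap.mem_range_self
      (LinearMap.pi fun i => (Algebra.trace Y.functionField X.functionField).comp
        (LinearMap.mulLeft Y.functionField (c i))) z))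
    rw [← LinearMap.sum_single_apply (φ := fun _ => Y.functionField)
      (v := LinearMap.pi (fun i => (Algebra.trace Y.functionField X.functionField).comp
        (LinearMap.mulLeft Y.functionField (c i))) z), map_sum] at hz
    refine Eq.trans (Finset.sum_congr rfl fun i _ => ?_) hz
    rw [mul_comm, ← smul_eq_mul, ← map_smul]
    congr 1
    ext j
    simp [Pi.single_apply]
  have h0 : ∑ i, φ (Pi.single i 1) • c i = 0 :=
    (traceForm_nondegenerate Y.functionField X.functionField).1 _ fun z => by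
      rw [Algebra.traceForm_apply, Finset.sum_mul, map_sum]
      refine Eq.trans (Finset.sum_congr rfl fun i _ => ?_) (hsum z)
      rw [smul_mul_assoc, map_smul, smul_eq_mul]
  have hl := Fintype.linearIndependent_iff.1 hind _ h0
  refine LinearMap.pi_ext fun i x => ?_
  rw [show Pi.single i x = x • (Pi.single i 1 : Fin a → Y.functionField) by
    rw [← Pi.single_smul, smul_eq_mul, mul_one], map_smul, hl i, smul_zero, LinearMap.zero_apply]

end Field

variable {k : Type u} [Field k] {X Y : Scheme.{u}} [IsIntegral X] [IsIntegral Y]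
  [X.Over (Spec (CommRingCat.of k))] [Y.Over (Spec (CommRingCat.of k))]
  [IsProper (X ↘ Spec (CommRingCat.of k))] [IsProper (Y ↘ Spec (CommRingCat.of k))]

/-- For independent global functions the trace map `H¹(X, O) → H¹(Y, O)^a` is surjective. -/
theorem mul_finrank_h1_le (hdY : topologicalKrullDim Y = 1) (hnY : Pi1.IsNormalScheme Y)
    (f : X ⟶ Y) [IsFinite f] (hf : f ≫ (Y ↘ Spec (CommRingCat.of k)) = X ↘ Spec (CommRingCat.of k))
    (e : f (genericPoint X) = genericPoint Y)
    (hsep : letI := (ffMap f e).toAlgebra; Algebra.IsSeparable Y.functionField X.functionField)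
    {a : ℕ} (c : Fin a → Γ(X, ⊤))
    (hind : letI := (ffMap f e).toAlgebra
      LinearIndependent Y.functionField fun i => X.presheaf.germ ⊤ (genericPoint X) trivial (c i)) :
    a * Module.finrank k (Coh.HH Y (Coh.structureModule Y) 1) ≤ Module.finrank k (Coh.HH X (Coh.structureModule X) 1) := by
  classical
  letI := (ffMap f e).toAlgebra
  haveI := hsep
  haveI := finiteDimensional_ffMap f e
  set L := X.functionField
  set K := Y.functionField
  let c' : Fin a → L := fun i => X.presheaf.germ ⊤ (genericPoint X) trivial (c i)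
  -- preimages of the unit vectors, with a common denominator
  obtain ⟨W, hW, hηW, -⟩ := exists_isAffineOpen_mem_and_subset (x := genericPoint Y) (U := (⊤ : Y.Opens)) trivial
  have hηW' : genericPoint X ∈ f ⁻¹ᵁ W := by show f (genericPoint X) ∈ W; rw [e]; exact hηW
  haveI : Nonempty W := ⟨⟨_, hηW⟩⟩
  haveI : Nonempty (f ⁻¹ᵁ W) := ⟨⟨_, hηW'⟩⟩
  have hfW : IsAffineOpen (f ⁻¹ᵁ W) := hW.preimage f
  haveI := functionField_isFractionRing_of_isAffineOpen X _ hfW
  letI algAB : Algebra Γ(Y, W) Γ(X, f ⁻¹ᵁ W) := (f.app W).hom.toAlgebra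
  haveI : Module.Finite Γ(Y, W) Γ(X, f ⁻¹ᵁ W) := IsFinite.finite_app f W hW
  have hinjA : Function.Injective (algebraMap Γ(Y, W) Γ(X, f ⁻¹ᵁ W)) := fun p q hpq => by
    haveI := functionField_isFractionRing_of_isAffineOpen Y _ hW
    exact IsFractionRing.injective Γ(Y, W) K ((ffMap f e).injective
      (((ffMap_germ f e hηW p hηW').trans (congrArg (algebraMap Γ(X, f ⁻¹ᵁ W) L) hpq)).trans
        (ffMap_germ f e hηW q hηW').symm))
  haveI : FaithfulSMul Γ(Y, W) Γ(X, f ⁻¹ᵁ W) := (faithfulSMul_iff_algebraMap_injective _ _).mpr hinjA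
  have hsurj := trace_mul_surjective f e rfl hind
  choose z hz using fun i => hsurj (Pi.single i 1)
  choose u v hv huv using fun i => IsFractionRing.div_surjective Γ(X, f ⁻¹ᵁ W) (z i)
  choose d hd hvd using fun i => (Algebra.IsAlgebraic.isAlgebraic (R := Γ(Y, W)) (v i)).exists_nonzero_dvd (hv i)
  let dd := ∏ i, d i
  have hdd : dd ≠ 0 := Finset.prod_ne_zero_iff.2 fun i _ => hd i
  let W0 := Y.basicOpen dd
  have hW0 : genericPoint Y ∈ W0 := by
    haveI := functionField_isFractionRing_of_isAffineOpen Y _ hW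
    rw [Scheme.mem_basicOpen _ _ _ hηW]
    exact isUnit_iff_ne_zero.2 fun h => hdd (IsFractionRing.injective Γ(Y, W) K (h.trans (map_zero _).symm))
  have hW0' : genericPoint X ∈ f ⁻¹ᵁ W0 := by show f (genericPoint X) ∈ W0; rw [e]; exact hW0
  have hW0le : W0 ≤ W := Y.basicOpen_le dd
  have hzmem : ∀ i, z i ∈ Set.range (X.presheaf.germ (f ⁻¹ᵁ W0) _ hW0') := fun i => by
    obtain ⟨w, hw⟩ := hvd i
    have hu : IsUnit (X.presheaf.map (homOfLE (show f ⁻¹ᵁ W0 ≤ f ⁻¹ᵁ W from fun p hp => hW0le hp)).op (v i)) := by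
      have h1 : IsUnit (Y.presheaf.map (homOfLE hW0le).op dd) :=
        RingedSpace.isUnit_res_basicOpen Y.toSheafedSpace dd
      have h2 := h1.map (f.app W0).hom
      have h3 : (f.app W0).hom (Y.presheaf.map (homOfLE hW0le).op dd) =
          X.presheaf.map (homOfLE (show f ⁻¹ᵁ W0 ≤ f ⁻¹ᵁ W from fun p hp => hW0le hp)).op (f.app W dd) :=
        ConcreteCategory.congr_hom (f.naturality (homOfLE hW0le).op) dd
      rw [h3] at h2
      have h4 : f.app W dd = v i * (w * ∏ j ∈ Finset.univ.erase i, algebraMap Γ(Y, W) Γ(X, f ⁻¹ᵁ W) (d j)) := by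
        rw [← mul_assoc, ← hw, ← map_prod, ← map_mul]
        exact congrArg _ (Finset.mul_prod_erase Finset.univ d (Finset.mem_univ i)).symm
      rw [h4, map_mul] at h2
      exact isUnit_of_mul_isUnit_left h2
    obtain ⟨w', hw'⟩ := hu.exists_right_inv
    refine ⟨X.presheaf.map (homOfLE (show f ⁻¹ᵁ W0 ≤ f ⁻¹ᵁ W from fun p hp => hW0le hp)).op (u i) * w', ?_⟩
    have hv0 : algebraMap Γ(X, f ⁻¹ᵁ W) L (v i) ≠ 0 := fun h => nonZeroDivisors.ne_zero (hv i)
      (IsFractionRing.injective Γ(X, f ⁻¹ᵁ W) L (h.trans (map_zero _).symm))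
    rw [map_mul, TopCat.Presheaf.germ_res_apply, ← huv i, eq_div_iff hv0, mul_assoc]
    have h5 := congrArg (X.presheaf.germ (f ⁻¹ᵁ W0) (genericPoint X) hW0') hw'
    rw [map_mul, map_one, TopCat.Presheaf.germ_res_apply] at h5
    rw [mul_comm (X.presheaf.germ (f ⁻¹ᵁ W0) _ hW0' w'), show algebraMap Γ(X, f ⁻¹ᵁ W) L (v i) =
      X.presheaf.germ (f ⁻¹ᵁ W) _ hηW' (v i) from rfl, h5, mul_one]
    rfl
  -- a cover with two affines meeting inside `W0`
  let S : Set Y := (W0 : Set Y)ᶜ
  have hSη : genericPoint Y ∉ S := fun h => h hW0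
  have hclosed : ∀ s ∈ S, IsClosed ({s} : Set Y) := fun s hs =>
    (CurvesLib24.eq_genericPoint_or_isClosed hdY.le s).resolve_left fun h => hSη (h ▸ hs)
  haveI : IsLocallyNoetherian Y := isLocallyNoetherian_of_proper k (X := Y)
  haveI : CompactSpace Y := QuasiCompact.compactSpace_of_compactSpace (Y ↘ Spec (CommRingCat.of k))
  haveI : IsNoetherian Y := {}
  have hSfin : S.Finite := by
    obtain ⟨𝒮, h𝒮, hSc, hSi, hSeq⟩ := NoetherianSpace.exists_finite_set_isClosed_irreducible
      (show IsClosed S from W0.2.isClosed_compl)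
    rw [hSeq]
    refine h𝒮.sUnion fun t ht => ?_
    obtain ⟨p, hp⟩ := QuasiSober.sober (hSi t ht) (hSc t ht)
    rw [← hp.def, (hclosed p (hSeq ▸ Set.mem_sUnion.mpr ⟨t, ht, hp.mem⟩)).closure_eq]
    exact Set.finite_singleton p
  haveI : JacobsonSpace Y := LocallyOfFiniteType.jacobsonSpace (Y ↘ Spec (CommRingCat.of k))
  obtain ⟨x, hxW0, hx⟩ := nonempty_inter_closedPoints (⟨_, hW0⟩ : (W0 : Set Y).Nonempty) W0.2.isLocallyClosed
  rw [mem_closedPoints_iff] at hx
  obtain ⟨y, ⟨hyW0, hyx⟩, hy⟩ := nonempty_inter_closedPoints (X := Y) (Z := (W0 : Set Y) ∩ {x}ᶜ)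
    ⟨genericPoint Y, hW0, fun h => CurvesLib24.not_isClosed_genericPoint hdY (by
      rw [Set.mem_singleton_iff] at h; rw [h]; exact hx)⟩ (W0.2.inter hx.isOpen_compl).isLocallyClosed
  rw [mem_closedPoints_iff] at hy
  have hT : IsClosed (insert x S) := by
    rw [Set.insert_eq]; exact hx.union W0.2.isClosed_compl
  let U : Y.Opens := ⟨(insert x S)ᶜ, hT.isOpen_compl⟩
  let V : Y.Opens := ⟨({y} : Set Y)ᶜ, hy.isOpen_compl⟩
  have hU : IsAffineOpen U := VarietyLib.isAffineOpen_compl_finite k hdY (hSfin.insert x)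
    ⟨x, Set.mem_insert _ _⟩ (fun t ht => ht.elim (fun h => h ▸ hx) (hclosed t)) U rfl
  have hV : IsAffineOpen V := VarietyLib.isAffineOpen_compl_point k hdY hy
  have hUV : U ⊔ V = ⊤ := Opens.ext (Set.eq_univ_of_forall fun p =>
    if hp : p = y then Or.inl (by
      subst hp
      exact fun h => h.elim (fun h => hyx h) (fun h => h hyW0))
    else Or.inr hp)
  have hle0 : U ⊓ V ≤ W0 := fun p hp => by
    by_contra h
    exact hp.1 (Set.mem_insert_of_mem _ h)
  have hηU : genericPoint Y ∈ U := fun h => h.elim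
    (fun h => CurvesLib24.not_isClosed_genericPoint hdY (h ▸ hx)) hSη
  have hηV : genericPoint Y ∈ V := fun h => CurvesLib24.not_isClosed_genericPoint hdY (by
    rw [Set.mem_singleton_iff] at h; rw [h]; exact hy)
  have hη : genericPoint Y ∈ U ⊓ V := ⟨hηU, hηV⟩
  have hηX : genericPoint X ∈ f ⁻¹ᵁ (U ⊓ V) := by show f (genericPoint X) ∈ U ⊓ V; rw [e]; exact hη
  haveI : Y.IsSeparated := ⟨by rw [← terminal.comp_from (Y ↘ Spec (CommRingCat.of k))]; infer_instance⟩
  have hUVaff : IsAffineOpen (U ⊓ V) := hU.inf hV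
  haveI : Coh.IsQCoh (Coh.structureModule X) := isQCoh_structure k
  haveI : Coh.IsQCoh (Coh.structureModule Y) := isQCoh_structure k
  obtain ⟨δY, hYsurj, hYlin, hYker⟩ := exists_cocycle_map (k := k) hU hV hUV
  have hUVX : f ⁻¹ᵁ U ⊔ f ⁻¹ᵁ V = ⊤ := by
    rw [← Scheme.Hom.preimage_sup, hUV]; rfl
  obtain ⟨δX, hXsurj, hXlin, hXker⟩ : ∃ δ : Γ(X, f ⁻¹ᵁ (U ⊓ V)) →+ Coh.HH X (Coh.structureModule X) 1,
      Function.Surjective δ ∧
      (∀ (c : k) w, δ (EmbLib24.gl (X ↘ Spec (CommRingCat.of k)) (f ⁻¹ᵁ (U ⊓ V)) c * w) = c • δ w) ∧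
      ∀ w, δ w = 0 ↔ ∃ p q, w = X.presheaf.map (homOfLE (show f ⁻¹ᵁ (U ⊓ V) ≤ f ⁻¹ᵁ U from fun z hz => hz.1)).op p -
        X.presheaf.map (homOfLE (show f ⁻¹ᵁ (U ⊓ V) ≤ f ⁻¹ᵁ V from fun z hz => hz.2)).op q :=
    exists_cocycle_map (k := k) (hU.preimage f) (hV.preimage f) hUVX
  -- the trace of sections
  have htr : ∀ (O : Y.Opens), IsAffineOpen O → ∀ (hO : genericPoint Y ∈ O) (hO' : genericPoint X ∈ f ⁻¹ᵁ O)
      (w : Γ(X, f ⁻¹ᵁ O)) (i : Fin a), ∃ r : Γ(Y, O),
        Y.presheaf.germ O _ hO r = Algebra.trace K L (c' i * X.presheaf.germ _ _ hO' w) := fun O hOa hO hO' w i => by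
    obtain ⟨r, hr⟩ := trace_mem_range_germ f e rfl hnY hOa hO hO'
      (X.presheaf.map (homOfLE (le_top : f ⁻¹ᵁ O ≤ ⊤)).op (c i) * w)
    refine ⟨r, hr.trans ?_⟩
    rw [map_mul, TopCat.Presheaf.germ_res_apply]
  haveI : Nonempty (U ⊓ V : Y.Opens) := ⟨⟨_, hη⟩⟩
  haveI := functionField_isFractionRing_of_isAffineOpen Y _ hUVaff
  have hinj : Function.Injective (Y.presheaf.germ (U ⊓ V) (genericPoint Y) hη) :=
    IsFractionRing.injective Γ(Y, U ⊓ V) K
  choose T hT' using fun (w : Γ(X, f ⁻¹ᵁ (U ⊓ V))) (i : Fin a) => htr _ hUVaff hη hηX w i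
  have hTadd : ∀ w w', T (w + w') = T w + T w' := fun w w' => funext fun i => hinj (by
    rw [Pi.add_apply, map_add, hT', hT', hT', map_add, mul_add, map_add])
  have hTgl : ∀ (r : k) w, T (EmbLib24.gl (X ↘ Spec (CommRingCat.of k)) (f ⁻¹ᵁ (U ⊓ V)) r * w) =
      fun i => EmbLib24.gl (Y ↘ Spec (CommRingCat.of k)) (U ⊓ V) r * T w i := fun r w => funext fun i => hinj (by
    rw [map_mul, hT', map_mul (X.presheaf.germ (f ⁻¹ᵁ (U ⊓ V)) (genericPoint X) hηX).hom, Zeta24.germ_gl hη r, Zeta24.germ_gl hηX r, hT']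
    have hsc : (Curv2.stalkMap k X (genericPoint X) r : L) = algebraMap K L (algebraMap k K r) :=
      (ffMap_algebraMap f e hf r).symm
    rw [hsc, ← mul_assoc, mul_comm (c' i), mul_assoc, ← Algebra.smul_def, map_smul, smul_eq_mul]
    rfl)
  -- descent to cohomology
  let Φ₀ : Γ(X, f ⁻¹ᵁ (U ⊓ V)) →+ (Fin a → Coh.HH Y (Coh.structureModule Y) 1) :=
    AddMonoidHom.mk' (fun w i => δY (T w i)) fun w w' => funext fun i => by
      simp only [hTadd, Pi.add_apply, map_add]
  have hker : ∀ w, δX w = 0 → Φ₀ w = 0 := fun w hw => by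
    obtain ⟨p, q, hpq⟩ := (hXker w).1 hw
    funext i
    obtain ⟨rp, hrp⟩ := htr U hU hηU (by show f (genericPoint X) ∈ U; rw [e]; exact hηU) p i
    obtain ⟨rq, hrq⟩ := htr V hV hηV (by show f (genericPoint X) ∈ V; rw [e]; exact hηV) q i
    refine (hYker _).2 ⟨rp, rq, hinj ?_⟩
    rw [hT', map_sub, TopCat.Presheaf.germ_res_apply, TopCat.Presheaf.germ_res_apply, hrp, hrq, ← map_sub,
      ← mul_sub, hpq, map_sub (X.presheaf.germ (f ⁻¹ᵁ (U ⊓ V)) (genericPoint X) hηX).hom]
    congr 2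
    exact congrArg₂ (· - ·) (TopCat.Presheaf.germ_res_apply _ _ _ _ _) (TopCat.Presheaf.germ_res_apply _ _ _ _ _)
  have hfac : ∀ w w', δX w = δX w' → Φ₀ w = Φ₀ w' := fun w w' h => by
    have := hker (w - w') (by rw [map_sub δX, h, sub_self])
    exact sub_eq_zero.1 ((map_sub Φ₀ w w').symm.trans this)
  let Φ : Coh.HH X (Coh.structureModule X) 1 →ₗ[k] (Fin a → Coh.HH Y (Coh.structureModule Y) 1) :=
    { toFun := fun h => Φ₀ (Function.surjInv hXsurj h)
      map_add' := fun h h' => by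
        rw [← map_add]
        exact hfac _ _ (((Function.surjInv_eq hXsurj _).trans (congrArg₂ (· + ·) (Function.surjInv_eq hXsurj h).symm
          (Function.surjInv_eq hXsurj h').symm)).trans (map_add δX _ _).symm)
      map_smul' := fun r h => by
        refine (hfac _ (EmbLib24.gl (X ↘ Spec (CommRingCat.of k)) (f ⁻¹ᵁ (U ⊓ V)) r * Function.surjInv hXsurj h)
          (((Function.surjInv_eq hXsurj _).trans (congrArg (r • ·) (Function.surjInv_eq hXsurj h).symm)).trans
            (hXlin r _).symm)).trans ?_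
        funext i
        show δY (T _ i) = r • δY (T _ i)
        rw [hTgl, hYlin] }
  have hΦ : Function.Surjective Φ := fun t => by
    choose r hr using fun i => hYsurj (t i)
    choose zz hzz using hzmem
    let hle' : f ⁻¹ᵁ (U ⊓ V) ≤ f ⁻¹ᵁ W0 := fun p hp => hle0 hp
    let w : Γ(X, f ⁻¹ᵁ (U ⊓ V)) := ∑ j, f.app (U ⊓ V) (r j) * X.presheaf.map (homOfLE hle').op (zz j)
    refine ⟨δX w, ?_⟩
    refine (hfac _ w (Function.surjInv_eq hXsurj _)).trans (funext fun i => ?_)
    show δY (T w i) = t i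
    rw [← hr i]
    congr 1
    refine hinj ?_
    rw [hT', map_sum, Finset.mul_sum, map_sum]
    have hterm : ∀ j, Algebra.trace K L (c' i * X.presheaf.germ _ _ hηX
        (f.app (U ⊓ V) (r j) * X.presheaf.map (homOfLE hle').op (zz j))) =
        Y.presheaf.germ _ _ hη (r j) * (Pi.single j 1 : Fin a → K) i := fun j => by
      rw [map_mul (X.presheaf.germ (f ⁻¹ᵁ (U ⊓ V)) (genericPoint X) hηX).hom, ← ffMap_germ f e hη (r j) hηX, TopCat.Presheaf.germ_res_apply, hzz, ← hz j, mul_left_comm]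
      exact ((congrArg (Algebra.trace K L) (Algebra.smul_def _ _).symm).trans (map_smul _ _ _)).trans
        (smul_eq_mul _ _)
    refine (Finset.sum_congr rfl fun j _ => hterm j).trans ?_
    rw [Finset.sum_eq_single i (fun j _ hj => by rw [Pi.single_eq_of_ne (Ne.symm hj), mul_zero])
      (fun h => absurd (Finset.mem_univ i) h), Pi.single_eq_same, mul_one]
  haveI : IsLocallyNoetherian X := isLocallyNoetherian_of_proper k (X := X)
  haveI := finite_HH_of_isCoh k (isCoh_structureModule X) 1 (X := X)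
  haveI := finite_HH_of_isCoh k (isCoh_structureModule Y) 1 (X := Y)
  have := LinearMap.finrank_le_finrank_of_surjective hΦ
  rwa [Module.finrank_pi_fintype, Finset.sum_const, Finset.card_univ, Fintype.card_fin, smul_eq_mul] at this

end Groth.Agent.Hyper24
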