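import Groth.Agent.CurveRR24.DoubleCover.EquationField
import Groth.Agent.CurveRR24.AlgClosed
import Groth.Agent.Zeta24.Genus
import Groth.Agent.FF.RationalSub
import Groth.Agent.FBaseLib.Geom

/-!
# Involutions of double covers of the projective line
-/

set_option autoImplicit false
set_option linter.style.haveILetI false
set_option backward.isDefEq.respectTransparency.types false

universe u

open CategoryTheory CategoryTheory.Limits AlgebraicGeometry Opposite TopologicalSpace Polynomial
open Groth.Agent.Coherent Groth.Agent.CurveRR24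

namespace Groth.Agent.Hyper24

attribute [local instance] Curv2.stalkAlgebra

variable {X : Scheme.{u}} [IsIntegral X]

/-- The action of an endomorphism fixing the generic point on the function field. -/
noncomputable def genMap (σ : X ⟶ X) (e : σ (genericPoint X) = genericPoint X) : X.functionField →+* X.functionField :=
  (X.presheaf.stalkSpecializes (specializes_of_eq e) ≫ σ.stalkMap (genericPoint X)).hom

theorem genMap_germ (σ : X ⟶ X) (e : σ (genericPoint X) = genericPoint X) {W : X.Opens} (hW : genericPoint X ∈ W)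
    (a : Γ(X, W)) (hW' : genericPoint X ∈ σ ⁻¹ᵁ W) :
    genMap σ e (X.presheaf.germ W _ hW a) = X.presheaf.germ (σ ⁻¹ᵁ W) _ hW' (σ.app W a) := by
  show σ.stalkMap (genericPoint X) (X.presheaf.stalkSpecializes (specializes_of_eq e) (X.presheaf.germ W _ hW a)) = _
  rw [show X.presheaf.stalkSpecializes (specializes_of_eq e) (X.presheaf.germ W _ hW a) =
      X.presheaf.germ W (σ (genericPoint X)) hW' a from
    ConcreteCategory.congr_hom (TopCat.Presheaf.germ_stalkSpecializes X.presheaf hW (specializes_of_eq e)) a]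
  exact Scheme.Hom.germ_stalkMap_apply σ W _ hW' a

/-- The value of a section pulled back along a morphism agreeing with `σ`. -/
theorem genMap_app {Y : Scheme.{u}} (h : X ⟶ Y) (σ : X ⟶ X) (e : σ (genericPoint X) = genericPoint X)
    (hσ : σ ≫ h = h) {V : Y.Opens} (hV : genericPoint X ∈ h ⁻¹ᵁ V) (a : Γ(Y, V)) :
    genMap σ e (X.presheaf.germ (h ⁻¹ᵁ V) _ hV (h.app V a)) = X.presheaf.germ (h ⁻¹ᵁ V) _ hV (h.app V a) := by
  have hV' : genericPoint X ∈ σ ⁻¹ᵁ (h ⁻¹ᵁ V) := by show σ (genericPoint X) ∈ h ⁻¹ᵁ V; rw [e]; exact hV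
  rw [genMap_germ σ e hV _ hV']
  have key : ∀ (h' : X ⟶ Y) (hh : h' = h) (hV'' : genericPoint X ∈ h' ⁻¹ᵁ V),
      X.presheaf.germ (h' ⁻¹ᵁ V) _ hV'' (h'.app V a) = X.presheaf.germ (h ⁻¹ᵁ V) _ hV (h.app V a) := by
    rintro _ rfl _; rfl
  exact key (σ ≫ h) hσ hV'

variable {k : Type u} [Field k] [X.Over (Spec (CommRingCat.of k))]

/-- Endomorphisms over a separated base are determined by the function field. -/
theorem hom_ext_genMap [IsSeparated (X ↘ Spec (CommRingCat.of k))] (σ τ : X ⟶ X)
    (hσ : σ ≫ (X ↘ Spec (CommRingCat.of k)) = X ↘ Spec (CommRingCat.of k))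
    (hτ : τ ≫ (X ↘ Spec (CommRingCat.of k)) = X ↘ Spec (CommRingCat.of k))
    (eσ : σ (genericPoint X) = genericPoint X) (eτ : τ (genericPoint X) = genericPoint X)
    (h : genMap σ eσ = genMap τ eτ) : σ = τ := by
  haveI : X.IsSeparated := ⟨by
    rw [← terminal.comp_from (X ↘ Spec (CommRingCat.of k))]
    infer_instance⟩
  have key : ∀ (ρ : X ⟶ X) (e : ρ (genericPoint X) = genericPoint X),
      X.fromSpecStalk (genericPoint X) ≫ ρ =
        Spec.map (CommRingCat.ofHom (genMap ρ e)) ≫ X.fromSpecStalk (genericPoint X) := fun ρ e => by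
    rw [genMap, CommRingCat.ofHom_hom, Spec.map_comp, Category.assoc, Scheme.SpecMap_stalkSpecializes_fromSpecStalk,
      Scheme.SpecMap_stalkMap_fromSpecStalk]
  haveI : IsDominant (X.fromSpecStalk (genericPoint X)) := by
    rw [isDominant_iff, DenseRange, Scheme.range_fromSpecStalk]
    have hd : Dense ({genericPoint X} : Set X) :=
      dense_iff_closure_eq.2 (genericPoint_spec X).def
    exact hd.mono fun y hy => by rw [Set.mem_singleton_iff] at hy; subst hy; exact specializes_rfl
  exact ext_of_isDominant (X.fromSpecStalk (genericPoint X)) (by rw [key σ eσ, key τ eτ, h])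

variable [IsProper (X ↘ Spec (CommRingCat.of k))]

omit [X.Over (Spec (CommRingCat.of k))] [IsProper (X ↘ Spec (CommRingCat.of k))] in
theorem map_generic_of_comp (hdim : topologicalKrullDim X = 1) (h : X ⟶ CohB1.ProjSpace 1 k) [IsFinite h]
    (σ : X ⟶ X) (hσ : σ ≫ h = h) : σ (genericPoint X) = genericPoint X := by
  haveI := CurveLib.isIntegral_projSpace k 1
  have hη := genericPoint_map_of_finite h hdim (DimLib.PN.topologicalKrullDim_projSpace 1 k).le
  refine (CurvesLib24.eq_genericPoint_or_isClosed hdim.le _).resolve_right fun hc => ?_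
  have h1 : h (σ (genericPoint X)) = h (genericPoint X) := by
    rw [show h (σ (genericPoint X)) = (σ ≫ h) (genericPoint X) from rfl, hσ]
  have h2 : IsClosed ({h (σ (genericPoint X))} : Set (CohB1.ProjSpace 1 k)) := by
    rw [← Set.image_singleton]; exact h.isClosedMap _ hc
  rw [h1, hη] at h2
  exact CurvesLib24.not_isClosed_genericPoint (DimLib.PN.topologicalKrullDim_projSpace 1 k) h2

/-- The data of a double cover on function fields. -/
theorem exists_data (hdim : topologicalKrullDim X = 1) (hN : Pi1.IsNormalScheme X)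
    (h0 : Module.finrank k (Coh.HH X (Coh.structureModule X) 0) = 1)
    (h : X ⟶ CohB1.ProjSpace 1 k) (hh : h ≫ CohB1.ProjSpace.toSpec 1 k = X ↘ Spec (CommRingCat.of k))
    [IsFinite h] [Flat h] (hr : ∀ y, Scheme.Hom.finrank h y = 2) :
    ∃ (t y : X.functionField) (p q : k[X]),
      Module.finrank (IntermediateField.adjoin k ({t} : Set X.functionField)) X.functionField = 2 ∧
      IntermediateField.adjoin k ({t, y} : Set X.functionField) = ⊤ ∧
      y ^ 2 + aeval t q * y = aeval t p ∧
      ∀ (σ : X ⟶ X) (e : σ (genericPoint X) = genericPoint X), σ ≫ h = h →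
        genMap σ e t = t ∧ ∀ c : k, genMap σ e (algebraMap k X.functionField c) = algebraMap k X.functionField c := by
  obtain ⟨D⟩ := exists_normalForm h hdim h0 hh hr
  obtain ⟨p, q, heq, -, -, -⟩ := D.equation h hdim hN hh
  let U := h ⁻¹ᵁ EmbLib24.chart 1 k 0
  have hmem : genericPoint X ∈ U := map_generic_mem h hdim 0
  haveI : Nonempty U := ⟨⟨_, hmem⟩⟩
  have hU : IsAffineOpen U := (EmbLib24.isAffineOpen_chart 1 k 0).preimage h
  haveI := functionField_isFractionRing_of_isAffineOpen X U hU
  let γ : Γ(X, U) →+* X.functionField := algebraMap Γ(X, U) X.functionField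
  let t := γ (pullChart h 0 Polynomial.X)
  have hC : ∀ c : k, γ (pullChart h 0 (Polynomial.C c)) = algebraMap k X.functionField c := fun c => by
    rw [pullChart_C hh]
    exact EmbLib24.germ_gl _ hmem c
  have hπ : ∀ a, γ (pullChart h 0 a) = aeval t a := fun a => by
    refine RingHom.congr_fun (show γ.comp (pullChart h 0) = (aeval t : k[X] →ₐ[k] X.functionField).toRingHom from
      Polynomial.ringHom_ext (fun c => ?_) ?_) a
    · show γ (pullChart h 0 (Polynomial.C c)) = aeval t (Polynomial.C c)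
      rw [aeval_C, hC]
    · show γ (pullChart h 0 Polynomial.X) = aeval t Polynomial.X
      rw [aeval_X]
  have hγ : Function.Injective γ := IsFractionRing.injective Γ(X, U) X.functionField
  have heq' : γ D.y ^ 2 + aeval t q * γ D.y = aeval t p := by
    rw [← hπ, ← hπ, ← map_pow, ← map_mul, ← map_add, heq]
  obtain ⟨h1, h2, -⟩ := field_of_equation (t := t) (y := γ D.y) (p := p) (q := q)
    (fun a b hab => D.indep_y a b (hγ (by rw [map_add, map_mul, map_zero, hπ, hπ]; exact hab))) heq' (fun w => by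
    obtain ⟨u, v, -, rfl⟩ := IsFractionRing.div_surjective Γ(X, U) w
    obtain ⟨a, b, rfl⟩ := D.span_y u
    obtain ⟨c, d, rfl⟩ := D.span_y v
    exact ⟨a, b, c, d, by simp only [map_add, map_mul, ← hπ]; rfl⟩)
  refine ⟨t, γ D.y, p, q, h2, h1, heq', fun σ e hσ => ⟨?_, fun c => ?_⟩⟩
  · exact genMap_app h σ e hσ hmem _
  · rw [← hC]; exact genMap_app h σ e hσ hmem _

variable [Smooth (X ↘ Spec (CommRingCat.of k))] [IsAlgClosed k]

/-- Hyperelliptic involutions coincide. -/
theorem involution_unique (hdim : topologicalKrullDim X = 1) (hg : 2 ≤ Curv2.genus k X)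
    (h₁ h₂ : X ⟶ CohB1.ProjSpace 1 k) (hh₁ : h₁ ≫ CohB1.ProjSpace.toSpec 1 k = X ↘ Spec (CommRingCat.of k))
    (hh₂ : h₂ ≫ CohB1.ProjSpace.toSpec 1 k = X ↘ Spec (CommRingCat.of k))
    [IsFinite h₁] [Flat h₁] (hr₁ : ∀ y, Scheme.Hom.finrank h₁ y = 2)
    [IsFinite h₂] [Flat h₂] (hr₂ : ∀ y, Scheme.Hom.finrank h₂ y = 2)
    (σ τ : X ⟶ X) (hσ : σ ≫ h₁ = h₁) (hσ₁ : σ ≠ 𝟙 X) (hτ : τ ≫ h₂ = h₂) (hτ₁ : τ ≠ 𝟙 X) : σ = τ := by
  haveI : IsSeparated (X ↘ Spec (CommRingCat.of k)) := inferInstance
  have hN : Pi1.IsNormalScheme X :=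
    NeronLib.isNormalScheme_of_smooth (X ↘ Spec (CommRingCat.of k)) (isNormalScheme_spec_field k)
  have h0 := CurveRR24.h0_structure k (X := X)
  haveI := FBaseLib.geometricallyIrreducible_of_isAlgClosed (X ↘ Spec (CommRingCat.of k))
  have hK := Zeta24.isFunctionField (k := k) hdim (hc := rfl)
  have hgK : 2 ≤ FunFld.genus k X.functionField := hg.trans_eq (Zeta24.finrank_h1 hdim rfl hK)
  obtain ⟨t, y, p, q, ht, htop, hy, hfix⟩ := exists_data hdim hN h0 h₁ hh₁ hr₁
  obtain ⟨t', y', p', q', ht', -, -, hfix'⟩ := exists_data hdim hN h0 h₂ hh₂ hr₂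
  have eσ := map_generic_of_comp hdim h₁ σ hσ
  have eτ := map_generic_of_comp hdim h₂ τ hτ
  have eone : (𝟙 X : X ⟶ X) (genericPoint X) = genericPoint X := rfl
  have hσp : σ ≫ (X ↘ Spec (CommRingCat.of k)) = X ↘ Spec (CommRingCat.of k) := by
    rw [← hh₁, ← Category.assoc, hσ]
  have hτp : τ ≫ (X ↘ Spec (CommRingCat.of k)) = X ↘ Spec (CommRingCat.of k) := by
    rw [← hh₂, ← Category.assoc, hτ]
  let alg : ∀ (ρ : X ⟶ X) (e : ρ (genericPoint X) = genericPoint X),
      (∀ c : k, genMap ρ e (algebraMap k X.functionField c) = algebraMap k X.functionField c) →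
      X.functionField →ₐ[k] X.functionField := fun ρ e hc => { genMap ρ e with commutes' := hc }
  let φ := alg σ eσ (hfix σ eσ hσ).2
  let ψ := alg τ eτ (hfix' τ eτ hτ).2
  let one := alg (𝟙 X) eone (hfix (𝟙 X) eone (Category.id_comp _)).2
  have hφt : φ t = t := (hfix σ eσ hσ).1
  have honet : one t = t := (hfix (𝟙 X) eone (Category.id_comp _)).1
  have hψt : ψ t = t := by
    have hle : IntermediateField.adjoin k ({t'} : Set X.functionField) ≤
        { AlgHom.equalizer ψ (AlgHom.id k X.functionField) with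
          inv_mem' := fun a (ha : ψ a = a) => by show ψ a⁻¹ = a⁻¹; rw [map_inv₀, ha] } :=
      IntermediateField.adjoin_simple_le_iff.mpr (hfix' τ eτ hτ).1
    exact hle (FF.adjoin_eq_of_finrank_eq_two hK hgK ht ht' ▸ IntermediateField.mem_adjoin_simple_self k t)
  have hone_y : one y = y := by
    obtain ⟨W, hW, a, ha⟩ := X.presheaf.exists_germ_eq y
    rw [← ha]
    show genMap (𝟙 X) eone _ = _
    rw [genMap_germ (𝟙 X) eone hW _ hW]
    rfl
  have key : ∀ (ρ : X ⟶ X) (e : ρ (genericPoint X) = genericPoint X)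
      (hρp : ρ ≫ (X ↘ Spec (CommRingCat.of k)) = X ↘ Spec (CommRingCat.of k))
      (hc : ∀ c : k, genMap ρ e (algebraMap k X.functionField c) = algebraMap k X.functionField c),
      alg ρ e hc t = t → ρ ≠ 𝟙 X → alg ρ e hc y = -y - aeval t q := by
    intro ρ e hρp hc hρt hne
    set a := alg ρ e hc y
    have h2 : a ^ 2 + aeval t q * a = aeval t p := by
      have := congrArg (alg ρ e hc) hy
      rwa [map_add, map_mul, map_pow, ← aeval_algHom_apply, ← aeval_algHom_apply, hρt] at this
    have h3 : (a - y) * (a + y + aeval t q) = 0 := by linear_combination h2 - hy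
    rcases mul_eq_zero.1 h3 with h4 | h4
    · refine absurd (hom_ext_genMap (k := k) ρ (𝟙 X) hρp (Category.id_comp _) e eone ?_) hne
      have : alg ρ e hc = one := by
        refine AlgHom.ext fun z => ?_
        have hle : IntermediateField.adjoin k ({t, y} : Set X.functionField) ≤
            { AlgHom.equalizer (alg ρ e hc) one with
              inv_mem' := fun b (hb : alg ρ e hc b = one b) => by
                show alg ρ e hc b⁻¹ = one b⁻¹; rw [map_inv₀, map_inv₀, hb] } := by
          rw [IntermediateField.adjoin_le_iff]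
          rintro z (rfl | rfl)
          · exact hρt.trans honet.symm
          · exact (sub_eq_zero.1 h4).trans hone_y.symm
        exact hle (htop ▸ IntermediateField.mem_top)
      exact RingHom.ext fun z => AlgHom.congr_fun this z
    · linear_combination h4
  refine hom_ext_genMap (k := k) σ τ hσp hτp eσ eτ ?_
  have hle : IntermediateField.adjoin k ({t, y} : Set X.functionField) ≤
      { AlgHom.equalizer φ ψ with
        inv_mem' := fun b (hb : φ b = ψ b) => by show φ b⁻¹ = ψ b⁻¹; rw [map_inv₀, map_inv₀, hb] } := by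
    rw [IntermediateField.adjoin_le_iff]
    rintro z (rfl | rfl)
    · exact hφt.trans hψt.symm
    · exact (key σ eσ hσp _ hφt hσ₁).trans (key τ eτ hτp _ hψt hτ₁).symm
  refine RingHom.ext fun z => ?_
  exact hle (htop ▸ IntermediateField.mem_top : z ∈ _)

end Groth.Agent.Hyper24
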