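import Groth.Agent.Hyper24.TraceH1
import Mathlib.FieldTheory.PrimitiveElement
import Mathlib.FieldTheory.AlgebraicClosure

/-!
# Constants of normal proper curves in a separable cover; the genus does not go up
-/

set_option autoImplicit false
set_option linter.style.haveILetI false
set_option linter.unusedSectionVars false
set_option backward.isDefEq.respectTransparency.types false
set_option maxHeartbeats 1000000

universe u

open CategoryTheory CategoryTheory.Limits AlgebraicGeometry Opposite TopologicalSpace
open Groth.Agent.Coherent Groth.Agent.CurveRR24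
open scoped IntermediateField

namespace Groth.Agent.Hyper24

attribute [local instance] Curv2.stalkAlgebra

section Field

variable {k K L : Type*} [Field k] [Field K] [Field L] [Algebra k K] [Algebra k L] [Algebra K L]
  [IsScalarTower k K L]

/-- An element algebraic over the constants keeps its degree over `K`. -/
theorem exists_algebraic_powers_indep [Algebra.IsSeparable K L] [FiniteDimensional k (algebraicClosure k L)] :
    ∃ (n : ℕ) (θ : L), Module.finrank k (algebraicClosure k L) = n * Module.finrank k (algebraicClosure k K) ∧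
      IsAlgebraic k θ ∧ LinearIndependent K fun i : Fin n => θ ^ (i : ℕ) := by
  let LX := algebraicClosure k L
  let LY := algebraicClosure k K
  let φ := IsScalarTower.toAlgHom k K L
  let M : IntermediateField k L := LY.map φ
  have hM : M ≤ LX := by
    rintro _ ⟨a, ha, rfl⟩
    exact mem_algebraicClosure_iff'.2 ((mem_algebraicClosure_iff'.1 ha).map φ)
  let ι : LY ≃ₐ[k] M := LY.equivMap φ
  have key : ∀ z ∈ LX, ∃ Q : Polynomial M, Q.Monic ∧ Q.Separable ∧ Polynomial.aeval z Q = 0 ∧
      Q.natDegree = (minpoly K z).natDegree := fun z hz => by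
    have hzk : IsIntegral k z := mem_algebraicClosure_iff'.1 hz
    have hzK : IsIntegral K z := hzk.tower_top
    have hcoef : ∀ i, (minpoly K z).coeff i ∈ LY := fun i => mem_algebraicClosure_iff'.2
      (Polynomial.isIntegral_coeff_of_dvd (minpoly k z) (minpoly K z) (minpoly.monic hzk) (minpoly.monic hzK)
        (minpoly.dvd K z (by rw [Polynomial.aeval_map_algebraMap, minpoly.aeval])) i)
    obtain ⟨Q, hQ', hQdeg, hQm⟩ := Polynomial.lifts_and_degree_eq_and_monic
      ((Polynomial.lifts_iff_coeff_lifts (f := algebraMap LY K) _).2 fun i => ⟨⟨_, hcoef i⟩, rfl⟩) (minpoly.monic hzK)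
    have hQ : Q.map (algebraMap LY K) = minpoly K z := hQ'
    refine ⟨Q.map ι.toAlgHom.toRingHom, hQm.map _, ?_, ?_, ?_⟩
    · refine ((Polynomial.separable_map (algebraMap LY K)).1 ?_).map
      rw [hQ]; exact Algebra.IsSeparable.isSeparable K z
    · have h := minpoly.aeval K z
      rw [← hQ, Polynomial.aeval_def, Polynomial.eval₂_map] at h
      rw [Polynomial.aeval_def, Polynomial.eval₂_map]
      exact h
    · rw [Polynomial.natDegree_map, ← hQ, Polynomial.natDegree_map]
  let E : IntermediateField M L := IntermediateField.extendScalars hM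
  haveI : FiniteDimensional k E := ‹FiniteDimensional k (algebraicClosure k L)›
  haveI : IsScalarTower k M E := IsScalarTower.of_algebraMap_eq fun _ => rfl
  haveI : FiniteDimensional M E := Module.Finite.right k M E
  haveI : Algebra.IsSeparable M E := ⟨fun z => by
    obtain ⟨Q, hQm, hQs, hQ0, -⟩ := key (z : L) z.2
    refine hQs.of_dvd (minpoly.dvd M z (Subtype.ext ?_))
    exact (Polynomial.aeval_algHom_apply E.val z Q).symm.trans hQ0⟩
  obtain ⟨α, hα⟩ := Field.exists_primitive_element M E
  refine ⟨Module.finrank M E, (α : L), ?_, (mem_algebraicClosure_iff'.1 α.2).isAlgebraic, ?_⟩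
  · rw [show Module.finrank k (algebraicClosure k K) = Module.finrank k M from ι.toLinearEquiv.finrank_eq,
      mul_comm, Module.finrank_mul_finrank k M E]
    rfl
  · obtain ⟨Q, hQm, -, hQ0, hQdeg⟩ := key (α : L) α.2
    have hαint : IsIntegral M α := IsIntegral.of_finite M α
    have hle : Module.finrank M E ≤ (minpoly K (α : L)).natDegree := by
      rw [← hQdeg, ← IntermediateField.finrank_top' (F := M) (E := E), ← hα,
        IntermediateField.adjoin.finrank hαint]
      exact Polynomial.natDegree_le_of_dvd (minpoly.dvd M α (Subtype.ext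
        ((Polynomial.aeval_algHom_apply E.val α Q).symm.trans hQ0))) hQm.ne_zero
    exact (linearIndependent_pow (α : L)).comp (Fin.castLE hle) (Fin.castLE_injective hle)

end Field

variable {k : Type u} [Field k] {X : Scheme.{u}} [IsIntegral X] [X.Over (Spec (CommRingCat.of k))]
  [IsProper (X ↘ Spec (CommRingCat.of k))]

/-- Global functions of a normal proper curve are the elements algebraic over the ground field. -/
theorem exists_global_equiv (hnX : Pi1.IsNormalScheme X) :
    ∃ j : Coh.HH X (Coh.structureModule X) 0 ≃ₗ[k] algebraicClosure k X.functionField,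
      ∀ z : X.functionField, IsAlgebraic k z → ∃ s : Γ(X, ⊤), X.presheaf.germ ⊤ _ trivial s = z := by
  haveI : IsLocallyNoetherian X := isLocallyNoetherian_of_proper k (X := X)
  haveI hfin0 : Module.Finite k (GA (baseHom k X) (Coh.structureModule X)) :=
    haveI := finite_HH_of_isCoh k (isCoh_structureModule X) 0 (X := X)
    Module.Finite.equiv (hhZero k (Coh.structureModule X))
  have hmem : ∀ z : X.functionField, IsAlgebraic k z → ∃ s : Γ(X, ⊤), X.presheaf.germ ⊤ _ trivial s = z := by
    intro z hz
    refine H8Lim.mem_range_germ_of_local (O := ⊤) trivial z fun x _ => ?_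
    haveI := (hnX x).1
    haveI := (hnX x).2
    letI : Algebra k (X.presheaf.stalk x) := (Curv2.stalkMap k X x).toAlgebra
    haveI : IsScalarTower k (X.presheaf.stalk x) X.functionField :=
      IsScalarTower.of_algebraMap_eq fun c => (ConcreteCategory.congr_hom
        (TopCat.Presheaf.germ_stalkSpecializes X.presheaf (show x ∈ (⊤ : X.Opens) from trivial)
          (genericPoint_specializes x)) _).symm
    obtain ⟨a, ha⟩ := (IsIntegrallyClosed.isIntegral_iff (R := X.presheaf.stalk x) (K := X.functionField)).mp
      (hz.isIntegral.tower_top)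
    obtain ⟨W, hW, b, rfl⟩ := X.presheaf.exists_germ_eq a
    refine ⟨W, (genericPoint_specializes x).mem_open W.2 hW, le_top, hW, b, ?_⟩
    rw [← ha]
    exact (ConcreteCategory.congr_hom
      (TopCat.Presheaf.germ_stalkSpecializes X.presheaf hW (genericPoint_specializes x)) b).symm
  let j₀ : GA (baseHom k X) (Coh.structureModule X) →ₗ[k] X.functionField :=
    { toFun := fun s => X.presheaf.germ ⊤ (genericPoint X) trivial (s : Γ(X, ⊤))
      map_add' := fun a b => map_add (X.presheaf.germ ⊤ (genericPoint X) trivial).hom _ _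
      map_smul' := fun r a => map_mul (X.presheaf.germ ⊤ (genericPoint X) trivial).hom _ _ }
  have hinj : Function.Injective j₀ := fun a b h =>
    germ_injective_of_isIntegral X (genericPoint X) (U := ⊤) trivial h
  have halg : ∀ s, j₀ s ∈ algebraicClosure k X.functionField := fun s => by
    refine mem_algebraicClosure_iff'.2 ?_
    let S : Subalgebra k X.functionField := (LinearMap.range j₀).toSubalgebra
      ⟨(1 : Γ(X, ⊤)), map_one (X.presheaf.germ ⊤ (genericPoint X) trivial).hom⟩ (by
        rintro _ _ ⟨a, rfl⟩ ⟨b, rfl⟩
        exact ⟨(show Γ(X, ⊤) from a) * (show Γ(X, ⊤) from b), map_mul (X.presheaf.germ ⊤ (genericPoint X) trivial).hom _ _⟩)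
    haveI : Module.Finite k S := inferInstanceAs (Module.Finite k (LinearMap.range j₀))
    exact IsIntegral.of_mem_of_fg S (Module.Finite.iff_fg.1 ‹_›) _ ⟨s, rfl⟩
  refine ⟨(hhZero k (Coh.structureModule X)).trans (LinearEquiv.ofBijective
    (j₀.codRestrict (algebraicClosure k X.functionField).toSubalgebra.toSubmodule halg) ⟨fun a b h =>
      hinj (congrArg Subtype.val h), fun z => ?_⟩), hmem⟩
  obtain ⟨s, hs⟩ := hmem z (mem_algebraicClosure_iff.1 z.2)
  exact ⟨s, Subtype.ext hs⟩

variable {Y : Scheme.{u}} [IsIntegral Y] [Y.Over (Spec (CommRingCat.of k))]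
  [IsProper (Y ↘ Spec (CommRingCat.of k))]

/-- Constants and `h¹` in a separable cover. -/
theorem exists_mul_h_le (hdY : topologicalKrullDim Y = 1) (hnX : Pi1.IsNormalScheme X)
    (hnY : Pi1.IsNormalScheme Y) (f : X ⟶ Y) [IsFinite f]
    (hf : f ≫ (Y ↘ Spec (CommRingCat.of k)) = X ↘ Spec (CommRingCat.of k))
    (e : f (genericPoint X) = genericPoint Y)
    (hsep : letI := (ffMap f e).toAlgebra; Algebra.IsSeparable Y.functionField X.functionField) :
    ∃ a : ℕ, Module.finrank k (Coh.HH X (Coh.structureModule X) 0) = a * Module.finrank k (Coh.HH Y (Coh.structureModule Y) 0) ∧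
      a * Module.finrank k (Coh.HH Y (Coh.structureModule Y) 1) ≤ Module.finrank k (Coh.HH X (Coh.structureModule X) 1) := by
  letI := (ffMap f e).toAlgebra
  haveI := hsep
  haveI : IsScalarTower k Y.functionField X.functionField :=
    IsScalarTower.of_algebraMap_eq fun c => (ffMap_algebraMap f e hf c).symm
  haveI : IsLocallyNoetherian X := isLocallyNoetherian_of_proper k (X := X)
  obtain ⟨jX, hX⟩ := exists_global_equiv (k := k) hnX
  obtain ⟨jY, -⟩ := exists_global_equiv (k := k) hnY
  haveI := finite_HH_of_isCoh k (isCoh_structureModule X) 0 (X := X)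
  haveI : FiniteDimensional k (algebraicClosure k X.functionField) := Module.Finite.equiv jX
  obtain ⟨n, θ, hdim, hθ, hind⟩ := exists_algebraic_powers_indep (k := k) (K := Y.functionField) (L := X.functionField)
  obtain ⟨s, hs⟩ := hX θ hθ
  refine ⟨n, by rw [jX.finrank_eq, jY.finrank_eq, hdim], mul_finrank_h1_le hdY hnY f hf e hsep (fun i : Fin n => s ^ (i : ℕ)) ?_⟩
  simp only [map_pow, hs]
  exact hind

end Groth.Agent.Hyper24
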