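import Groth.Agent.Hyper24.TraceH1

/-!
# The degree of a finite flat cover is the degree of the function field extension
-/

set_option autoImplicit false
set_option linter.style.haveILetI false
set_option backward.isDefEq.respectTransparency.types false
set_option maxHeartbeats 1000000

universe u

open CategoryTheory CategoryTheory.Limits AlgebraicGeometry Opposite TopologicalSpace
open Groth.Agent.Coherent

namespace Groth.Agent.Hyper24

/-- The rank of a finite flat cover is the degree of function fields. -/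
theorem finrank_ffMap_of_rank {X Y : Scheme.{u}} [IsIntegral X] [IsIntegral Y] [IsLocallyNoetherian Y]
    (g : X ⟶ Y) [IsFinite g] [Flat g] (e : g (genericPoint X) = genericPoint Y) {n : ℕ}
    (hn : ∀ y, Scheme.Hom.finrank g y = n) :
    letI := (ffMap g e).toAlgebra
    Module.finrank Y.functionField X.functionField = n := by
  have hpush : Coh.IsCoh ((Coh.push g).obj (Coh.structureModule X)) := by
    haveI : IsLocallyNoetherian X := LocallyOfFiniteType.isLocallyNoetherian g
    exact isCoh_push_finite g (isCoh_structureModule _)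
  obtain ⟨U, hU, ⟨iso⟩⟩ := SDiv28.GenRank.exists_open_free _ hpush.1 hpush.2
  have hηU : genericPoint Y ∈ U := ((genericPoint_spec Y).mem_open_set_iff U.2).2 (by simpa using hU)
  obtain ⟨W, hW, hpW, hWU⟩ := exists_isAffineOpen_mem_and_subset (x := genericPoint Y) (U := U) hηU
  obtain ⟨b⟩ := Props12.exists_basis_sections iso hWU
  have hV : IsAffineOpen (g ⁻¹ᵁ W) := hW.preimage g
  have sq : IsPullback hV.fromSpec (Spec.map (g.app W)) g hW.fromSpec := by
    refine (IsOpenImmersion.isPullback _ _ _ _ ?_ ?_).flip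
    · rw [← IsAffineOpen.SpecMap_appLE_fromSpec g hW hV le_rfl, Scheme.Hom.app_eq_appLE]
    · rw [hW.opensRange_fromSpec, hV.opensRange_fromSpec]
  have : LocallyOfFinitePresentation g := CohBC.locallyOfFinitePresentation_of_isLocallyNoetherian g
  letI algAB : Algebra Γ(Y, W) Γ(X, g ⁻¹ᵁ W) := (g.app W).hom.toAlgebra
  have hfin : Module.Finite Γ(Y, W) Γ(X, g ⁻¹ᵁ W) := IsFinite.finite_app g W hW
  have hfl' : Flat (Spec.map (g.app W)) := MorphismProperty.of_isPullback (P := @Flat) sq ‹Flat g›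
  have : Module.Flat Γ(Y, W) Γ(X, g ⁻¹ᵁ W) := (RingHom.flat_algebraMap_iff).1 (Flat.SpecMap_iff.1 hfl')
  let b' := b.map (show Γ((Coh.push g).obj (Coh.structureModule X), W) ≃ₗ[Γ(Y, W)] Γ(X, g ⁻¹ᵁ W) from
    { toFun := fun x => x, invFun := fun x => x, map_add' := fun _ _ => rfl, map_smul' := fun _ _ => rfl })
  have hfree : Module.Free Γ(Y, W) Γ(X, g ⁻¹ᵁ W) := Module.Free.of_basis b'
  haveI : Nonempty W := ⟨⟨_, hpW⟩⟩
  have hrank : Module.finrank Γ(Y, W) Γ(X, g ⁻¹ᵁ W) = n := by
    have h1 := hn (hW.fromSpec (hW.primeIdealOf ⟨_, hpW⟩))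
    rw [← Scheme.Hom.finrank_of_isPullback _ _ _ _ sq] at h1
    have h2 := (Scheme.Hom.finrank_SpecMap_algebraMap Γ(Y, W) Γ(X, g ⁻¹ᵁ W) _).symm.trans h1
    rw [Module.rankAtStalk_eq_finrank_of_free] at h2
    exact h2
  letI := (ffMap g e).toAlgebra
  have hη : genericPoint X ∈ g ⁻¹ᵁ W := by show g (genericPoint X) ∈ W; rw [e]; exact hpW
  haveI : Nonempty (g ⁻¹ᵁ W) := ⟨⟨_, hη⟩⟩
  haveI := functionField_isFractionRing_of_isAffineOpen X _ hV
  haveI := functionField_isFractionRing_of_isAffineOpen Y _ hW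
  letI algAL : Algebra Γ(Y, W) X.functionField :=
    ((algebraMap Γ(X, g ⁻¹ᵁ W) X.functionField).comp (g.app W).hom).toAlgebra
  haveI : IsScalarTower Γ(Y, W) Γ(X, g ⁻¹ᵁ W) X.functionField := IsScalarTower.of_algebraMap_eq fun _ => rfl
  haveI : IsScalarTower Γ(Y, W) Y.functionField X.functionField :=
    IsScalarTower.of_algebraMap_eq fun a => (ffMap_germ g e hpW a hη).symm
  haveI : FaithfulSMul Γ(Y, W) Γ(X, g ⁻¹ᵁ W) := (faithfulSMul_iff_algebraMap_injective _ _).mpr fun a b hab =>
    IsFractionRing.injective Γ(Y, W) Y.functionField ((ffMap g e).injective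
      (((ffMap_germ g e hpW a hη).trans (congrArg (algebraMap Γ(X, g ⁻¹ᵁ W) X.functionField) hab)).trans
        (ffMap_germ g e hpW b hη).symm))
  haveI : Algebra.IsAlgebraic Γ(Y, W) Γ(X, g ⁻¹ᵁ W) := Algebra.IsIntegral.isAlgebraic
  rw [IsFractionRing.finrank_eq Γ(Y, W) Y.functionField Γ(X, g ⁻¹ᵁ W) X.functionField, hrank]

end Groth.Agent.Hyper24
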