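import Groth.Agent.Hyper24.Basic
import Groth.Agent.FF.InvolutionFixed
import Groth.Agent.Zeta24.PicSections
import Groth.Agent.NeronLib.CodimOne

/-!
# Fixed points of involutions of curves
-/

set_option autoImplicit false
set_option linter.style.haveILetI false
set_option backward.isDefEq.respectTransparency.types false

universe u

open CategoryTheory CategoryTheory.Limits AlgebraicGeometry Opposite TopologicalSpace Polynomial FunFld
open Groth.Agent.Coherent Groth.Agent.CurveRR24

namespace Groth.Agent.Hyper24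

attribute [local instance] Curv2.stalkAlgebra

variable {k : Type u} [Field k] {X : Scheme.{u}} [IsIntegral X] [X.Over (Spec (CommRingCat.of k))]
  [IsProper (X ↘ Spec (CommRingCat.of k))] [Smooth (X ↘ Spec (CommRingCat.of k))]
  {hdim : topologicalKrullDim X = 1} {hK : IsFunctionField k X.functionField}

omit [IsProper (X ↘ Spec (CommRingCat.of k))] [Smooth (X ↘ Spec (CommRingCat.of k))] in
theorem genMap_stalk (σ : X ⟶ X) (e : σ (genericPoint X) = genericPoint X) (x : X)
    (z : X.presheaf.stalk (σ x)) :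
    genMap σ e (algebraMap (X.presheaf.stalk (σ x)) X.functionField z) =
      algebraMap (X.presheaf.stalk x) X.functionField (σ.stalkMap x z) := by
  obtain ⟨W, hW, a, rfl⟩ := X.presheaf.exists_germ_eq z
  rw [Scheme.Hom.germ_stalkMap_apply σ W x hW, ← Zeta24.gη_eq_stalk hW (Zeta24.mem_generic hW),
    ← Zeta24.gη_eq_stalk (show x ∈ σ ⁻¹ᵁ W from hW) (Zeta24.mem_generic (show x ∈ σ ⁻¹ᵁ W from hW))]
  exact genMap_germ σ e _ a _

omit [IsProper (X ↘ Spec (CommRingCat.of k))] [Smooth (X ↘ Spec (CommRingCat.of k))] in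
theorem isProper_of_over [IsProper (X ↘ Spec (CommRingCat.of k))] (σ : X ⟶ X)
    (hσ : σ ≫ (X ↘ Spec (CommRingCat.of k)) = X ↘ Spec (CommRingCat.of k)) : IsProper σ := by
  have : IsProper (σ ≫ (X ↘ Spec (CommRingCat.of k))) := by rw [hσ]; infer_instance
  exact IsProper.of_comp σ (X ↘ Spec (CommRingCat.of k))

omit [IsProper (X ↘ Spec (CommRingCat.of k))] [Smooth (X ↘ Spec (CommRingCat.of k))] in
theorem genMap_id_apply (y : X.functionField) : genMap (𝟙 X) rfl y = y := by
  obtain ⟨W, hW, a, rfl⟩ := X.presheaf.exists_germ_eq y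
  rw [genMap_germ (𝟙 X) rfl hW a hW]
  rfl

omit [IsProper (X ↘ Spec (CommRingCat.of k))] [Smooth (X ↘ Spec (CommRingCat.of k))] in
theorem genMap_comp_apply (σ τ : X ⟶ X) (eσ : σ (genericPoint X) = genericPoint X)
    (eτ : τ (genericPoint X) = genericPoint X) (e : (σ ≫ τ) (genericPoint X) = genericPoint X) (y : X.functionField) :
    genMap (σ ≫ τ) e y = genMap σ eσ (genMap τ eτ y) := by
  obtain ⟨W, hW, a, rfl⟩ := X.presheaf.exists_germ_eq y
  have h1 : genericPoint X ∈ τ ⁻¹ᵁ W := by show τ (genericPoint X) ∈ W; rw [eτ]; exact hW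
  have h2 : genericPoint X ∈ σ ⁻¹ᵁ (τ ⁻¹ᵁ W) := by show σ (genericPoint X) ∈ τ ⁻¹ᵁ W; rw [eσ]; exact h1
  rw [genMap_germ (σ ≫ τ) e hW a h2, genMap_germ τ eτ hW a h1, genMap_germ σ eσ h1 _ h2]
  rfl

include hdim hK

variable [IsAlgClosed k]

/-- The place of the image point. -/
theorem pullPlace_placeOf (σ : X ⟶ X) (e : σ (genericPoint X) = genericPoint X)
    (φ : X.functionField ≃ₐ[k] X.functionField) (hφ : ∀ z, φ z = genMap σ e z)
    (x : {x : X // IsClosed ({x} : Set X)}) (hx : IsClosed ({σ x.1} : Set X)) :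
    FF.pullPlace φ (Zeta24.placeOf hdim rfl hK x) = Zeta24.placeOf hdim rfl hK ⟨σ x.1, hx⟩ := by
  refine (FF.eq_of_le fun z hz => ?_).symm
  obtain ⟨a, rfl⟩ := (Zeta24.mem_placeOf_iff hdim rfl hK ⟨σ x.1, hx⟩ z).1 hz
  rw [FF.pullPlace_apply, hφ, genMap_stalk]
  exact (Zeta24.mem_placeOf_iff hdim rfl hK x _).2 ⟨_, rfl⟩

/-- Fixed closed points are the fixed places. -/
theorem natCard_fixed_eq (σ : X ⟶ X) (e : σ (genericPoint X) = genericPoint X)
    (hσp : σ ≫ (X ↘ Spec (CommRingCat.of k)) = X ↘ Spec (CommRingCat.of k))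
    (φ : X.functionField ≃ₐ[k] X.functionField) (hφ : ∀ z, φ z = genMap σ e z) :
    Nat.card {x : X // IsClosed ({x} : Set X) ∧ σ x = x} =
      Nat.card {P : Place k X.functionField // FF.pullPlace φ P = P} := by
  haveI := isProper_of_over σ hσp
  have hcl : ∀ x : {x : X // IsClosed ({x} : Set X)}, IsClosed ({σ x.1} : Set X) := fun x => by
    rw [← Set.image_singleton]; exact σ.isClosedMap _ x.2
  have hpull : ∀ x : {x : X // IsClosed ({x} : Set X)},
      FF.pullPlace φ (Zeta24.placeOf hdim rfl hK x) = Zeta24.placeOf hdim rfl hK ⟨σ x.1, hcl x⟩ := fun x => by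
    refine (FF.eq_of_le fun z hz => ?_).symm
    obtain ⟨a, rfl⟩ := (Zeta24.mem_placeOf_iff hdim rfl hK ⟨σ x.1, hcl x⟩ z).1 hz
    rw [FF.pullPlace_apply, hφ, genMap_stalk]
    exact (Zeta24.mem_placeOf_iff hdim rfl hK x _).2 ⟨_, rfl⟩
  refine (Nat.card_congr (Equiv.subtypeSubtypeEquivSubtypeInter
    (fun x : X => IsClosed ({x} : Set X)) (fun x => σ x = x))).symm.trans ?_
  refine Nat.card_congr ((Equiv.ofBijective _ (Zeta24.placeOf_bijective hdim rfl hK)).subtypeEquiv fun x => ?_)
  rw [Equiv.ofBijective_apply, hpull x]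
  exact ⟨fun h => congrArg _ (Subtype.ext h), fun h => congrArg Subtype.val ((Zeta24.placeOf_bijective hdim rfl hK).1 h)⟩

omit hK [IsAlgClosed k] in
/-- An automorphism of the function field comes from an endomorphism. -/
theorem exists_hom_of_algEquiv (φ : X.functionField ≃ₐ[k] X.functionField) :
    ∃ (σ : X ⟶ X) (e : σ (genericPoint X) = genericPoint X),
      σ ≫ (X ↘ Spec (CommRingCat.of k)) = X ↘ Spec (CommRingCat.of k) ∧ ∀ z, genMap σ e z = φ z := by
  let p := X ↘ Spec (CommRingCat.of k)
  let φ' : X.presheaf.stalk (genericPoint X) ⟶ X.presheaf.stalk (genericPoint X) :=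
    CommRingCat.ofHom (φ : X.functionField →+* X.functionField)
  have hψ : (Spec.map φ' ≫ X.fromSpecStalk (genericPoint X)) ≫ p = X.fromSpecStalk (genericPoint X) ≫ p := by
    rw [Category.assoc, ← CurveLib.specMap_stalkMap k X (genericPoint X), ← Spec.map_comp]
    congr 1
    refine CommRingCat.hom_ext (RingHom.ext fun c => ?_)
    exact φ.commutes c
  obtain ⟨U, hU, f, hf1, hf2⟩ := spread_out_of_isGermInjective' p p _ hψ
  have hUd : Dense (U : Set X) := U.isOpen.dense ⟨_, hU⟩
  obtain ⟨U', hle, hU', g, hg, hgf⟩ := NeronLib.exists_extension_codim_one (NeronLib.smoothRegular_spec k) p p U hUd f hf2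
  have htop : U' = ⊤ := top_le_iff.1 fun x _ =>
    hU' x ((CurvesLib24.stalk_dim_le_topologicalKrullDim x).trans hdim.le)
  subst htop
  refine ⟨X.topIso.inv ≫ g, ?_⟩
  set σ := X.topIso.inv ≫ g
  have hσι : U.ι ≫ σ = f := by
    rw [← hgf, ← Category.assoc]
    congr 1
    rw [← cancel_mono (⊤ : X.Opens).ι, Category.assoc, X.homOfLE_ι, show X.topIso.inv ≫ (⊤ : X.Opens).ι = 𝟙 X from
      X.topIso.inv_hom_id, Category.comp_id]
  have hkey : X.fromSpecStalk (genericPoint X) ≫ σ = Spec.map φ' ≫ X.fromSpecStalk (genericPoint X) := by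
    rw [hf1, ← hσι, ← Category.assoc (U.fromSpecStalkOfMem _ hU), Scheme.Opens.fromSpecStalkOfMem_ι]
  have e : σ (genericPoint X) = genericPoint X := by
    have h := congrArg (fun m : Spec (X.presheaf.stalk (genericPoint X)) ⟶ X => m (IsLocalRing.closedPoint _)) hkey
    simp only [Scheme.Hom.comp_apply, Scheme.fromSpecStalk_closedPoint] at h
    rw [h, show (Spec.map φ') (IsLocalRing.closedPoint _) = IsLocalRing.closedPoint (X.presheaf.stalk (genericPoint X))
      from Subsingleton.elim (α := PrimeSpectrum X.functionField) _ _, Scheme.fromSpecStalk_closedPoint]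
  refine ⟨e, ?_, fun z => ?_⟩
  · show (X.topIso.inv ≫ g) ≫ p = p
    rw [Category.assoc, hg, ← Category.assoc, show X.topIso.inv ≫ (⊤ : X.Opens).ι = 𝟙 X from X.topIso.inv_hom_id,
      Category.id_comp]
  · have h2 : Spec.map (CommRingCat.ofHom (genMap σ e)) = Spec.map φ' := by
      rw [← cancel_mono (X.fromSpecStalk (genericPoint X)), ← hkey, genMap, CommRingCat.ofHom_hom, Spec.map_comp,
        Category.assoc, Scheme.SpecMap_stalkSpecializes_fromSpecStalk, Scheme.SpecMap_stalkMap_fromSpecStalk]
    exact congrArg (fun m : X.presheaf.stalk (genericPoint X) ⟶ X.presheaf.stalk (genericPoint X) => m.hom z)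
      (Spec.map_injective h2)

omit hK [IsAlgClosed k] in
/-- A double cover with the square completed: `y² = p(t)`, `p` squarefree of degree at least `2g + 1`. -/
theorem exists_data_sq (h0 : Module.finrank k (Coh.HH X (Coh.structureModule X) 0) = 1) (h2 : (2 : k) ≠ 0)
    (h : X ⟶ CohB1.ProjSpace 1 k) (hh : h ≫ CohB1.ProjSpace.toSpec 1 k = X ↘ Spec (CommRingCat.of k))
    [IsFinite h] [Flat h] (hr : ∀ y, Scheme.Hom.finrank h y = 2) :
    ∃ (t y : X.functionField) (p : k[X]),
      Module.finrank (IntermediateField.adjoin k ({t} : Set X.functionField)) X.functionField = 2 ∧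
      IntermediateField.adjoin k ({t, y} : Set X.functionField) = ⊤ ∧
      y ^ 2 = aeval t p ∧ Squarefree p ∧ 2 * Curv2.genus k X + 1 ≤ p.natDegree ∧
      Transcendental k t ∧ y ∉ IntermediateField.adjoin k ({t} : Set X.functionField) := by
  have hN : Pi1.IsNormalScheme X :=
    NeronLib.isNormalScheme_of_smooth (X ↘ Spec (CommRingCat.of k)) (isNormalScheme_spec_field k)
  obtain ⟨D₀⟩ := exists_normalForm h hdim h0 hh hr
  obtain ⟨D, p, heq, hlow, -⟩ := D₀.exists_sq h hdim hN hh h2
  let U := h ⁻¹ᵁ EmbLib24.chart 1 k 0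
  have hmem : genericPoint X ∈ U := map_generic_mem h hdim 0
  haveI : Nonempty U := ⟨⟨_, hmem⟩⟩
  have hU : IsAffineOpen U := (EmbLib24.isAffineOpen_chart 1 k 0).preimage h
  haveI := functionField_isFractionRing_of_isAffineOpen X U hU
  haveI := NormalExtLib.isIntegrallyClosed_sections hN U hU
  let γ : Γ(X, U) →+* X.functionField := algebraMap Γ(X, U) X.functionField
  let t := γ (pullChart h 0 Polynomial.X)
  have hC : ∀ c : k, γ (pullChart h 0 (Polynomial.C c)) = algebraMap k X.functionField c := fun c => by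
    rw [pullChart_C hh]
    exact EmbLib24.germ_gl _ hmem c
  have hπ : ∀ a, γ (pullChart h 0 a) = aeval t a := fun a => by
    refine RingHom.congr_fun (show γ.comp (pullChart h 0) = (aeval t : k[X] →ₐ[k] X.functionField).toRingHom from
      Polynomial.ringHom_ext (fun c => ?_) ?_) a
    · show γ (pullChart h 0 (Polynomial.C c)) = aeval t (Polynomial.C c)
      rw [aeval_C, hC]
    · show γ (pullChart h 0 Polynomial.X) = aeval t Polynomial.X
      rw [aeval_X]
  have hγ : Function.Injective γ := IsFractionRing.injective Γ(X, U) X.functionField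
  have heq' : γ D.y ^ 2 = aeval t p := by rw [← hπ, ← map_pow, heq]
  have hind : ∀ a b : k[X], aeval t a + aeval t b * γ D.y = 0 → a = 0 ∧ b = 0 := fun a b hab =>
    D.indep_y a b (hγ (by rw [map_add, map_mul, map_zero, hπ, hπ]; exact hab))
  obtain ⟨h1, h3, -⟩ := field_of_equation (t := t) (y := γ D.y) (p := p) (q := 0) hind
    (by rw [map_zero, zero_mul, add_zero]; exact heq') (fun w => by
    obtain ⟨u, v, -, rfl⟩ := IsFractionRing.div_surjective Γ(X, U) w
    obtain ⟨a, b, rfl⟩ := D.span_y u
    obtain ⟨c, d, rfl⟩ := D.span_y v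
    exact ⟨a, b, c, d, by simp only [map_add, map_mul, ← hπ]; rfl⟩)
  have hp0 : p ≠ 0 := fun e => by rw [e, natDegree_zero] at hlow; omega
  have ht : Transcendental k t := by
    rintro ⟨a, ha0, ha⟩
    exact ha0 (hind a 0 (by rw [ha, map_zero, zero_mul, add_zero])).1
  have hinj := transcendental_iff_injective.mp ht
  refine ⟨t, γ D.y, p, h3, h1, heq', fun a ⟨b, hb⟩ => ?_, hlow, ht, fun hy => ?_⟩
  · have ha0 : a ≠ 0 := fun e => hp0 (by rw [hb, e]; simp)
    have hta : aeval t a ≠ 0 := fun e => ha0 (hinj (e.trans (map_zero _).symm))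
    obtain ⟨z, hz⟩ := (IsIntegrallyClosed.isIntegral_iff (x := γ D.y / aeval t a) (R := Γ(X, U))).mp
      ⟨Polynomial.X ^ 2 - Polynomial.C (pullChart h 0 b), monic_X_pow_sub_C _ two_ne_zero, by
        rw [eval₂_sub, eval₂_pow, eval₂_X, eval₂_C, div_pow, heq', hb, map_mul, map_mul, sub_eq_zero, div_eq_iff (pow_ne_zero _ hta)]
        rw [show algebraMap Γ(X, U) X.functionField (pullChart h 0 b) = aeval t b from hπ b]
        ring⟩
    obtain ⟨c, d, rfl⟩ := D.span_y z
    change γ _ = _ at hz
    rw [eq_div_iff hta, map_add, map_mul, hπ, hπ] at hz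
    obtain ⟨-, hd⟩ := hind (a * c) (a * d - 1) (by rw [map_mul, map_sub, map_mul, map_one]; linear_combination hz)
    exact IsUnit.of_mul_eq_one d (sub_eq_zero.1 hd)
  · obtain ⟨r, s, hrs⟩ := (IntermediateField.mem_adjoin_simple_iff k _).1 hy
    by_cases hs : aeval t s = 0
    · rw [hs, div_zero] at hrs
      rw [hrs, zero_pow two_ne_zero] at heq'
      exact hp0 (hinj (heq'.symm.trans (map_zero _).symm))
    · obtain ⟨-, h4⟩ := hind (-r) s (by
        rw [map_neg, hrs, mul_div_cancel₀ _ hs, neg_add_cancel])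
      exact hs (by rw [h4, map_zero])

omit [IsProper (X ↘ Spec (CommRingCat.of k))] [Smooth (X ↘ Spec (CommRingCat.of k))] hdim hK [IsAlgClosed k] in
/-- The nontrivial automorphism of a quadratic extension. -/
theorem exists_conj (h2 : (2 : k) ≠ 0) {t y : X.functionField} {p : k[X]}
    (ht : Module.finrank (IntermediateField.adjoin k ({t} : Set X.functionField)) X.functionField = 2)
    (hy2 : y ^ 2 = aeval t p) (hy : y ∉ IntermediateField.adjoin k ({t} : Set X.functionField)) :
    ∃ φ : X.functionField ≃ₐ[k] X.functionField, φ t = t ∧ φ y = -y ∧ (∀ z, φ (φ z) = z) ∧ φ ≠ AlgEquiv.refl := by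
  set F := IntermediateField.adjoin k ({t} : Set X.functionField)
  haveI : FiniteDimensional F X.functionField := Module.finite_of_finrank_eq_succ ht
  have hdec : ∀ w : X.functionField, ∃ c d : F, w = (c : X.functionField) + (d : X.functionField) * y := fun w =>
    FF.exists_decomp (K := F) ht (fun ⟨c, hc⟩ => hy (by rw [← hc]; exact c.2)) w
  choose c d hcd using hdec
  have huniq : ∀ a b a' b' : F, (a : X.functionField) + b * y = a' + b' * y → a = a' ∧ b = b' := by
    intro a b a' b' he
    by_cases hb : b = b'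
    · subst hb; exact ⟨Subtype.ext (by linear_combination he), rfl⟩
    · refine absurd ?_ hy
      have hne : ((b : X.functionField) - b') ≠ 0 := sub_ne_zero.2 fun h => hb (Subtype.ext h)
      rw [show y = ((a' : X.functionField) - a) / (b - b') by rw [eq_div_iff hne]; linear_combination he]
      exact div_mem (sub_mem a'.2 a.2) (sub_mem b.2 b'.2)
  have hpF : aeval t p ∈ F := (IntermediateField.mem_adjoin_simple_iff k _).2 ⟨p, 1, by rw [map_one, div_one]⟩
  let f : X.functionField → X.functionField := fun w => (c w : X.functionField) - d w * y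
  have hf : ∀ a b : F, f ((a : X.functionField) + b * y) = a - b * y := fun a b => by
    obtain ⟨h1, h2⟩ := huniq _ _ _ _ (hcd ((a : X.functionField) + b * y))
    simp only [f, ← h1, ← h2]
  have hff : ∀ w, f (f w) = w := fun w => by
    conv_rhs => rw [hcd w]
    show f ((c w : X.functionField) - d w * y) = _
    rw [sub_eq_add_neg, ← neg_mul, ← NegMemClass.coe_neg, hf]
    push_cast; ring
  have hfadd : ∀ a b, f (a + b) = f a + f b := fun a b => by
    conv_lhs => rw [hcd a, hcd b, show ((c a : X.functionField) + d a * y) + (c b + d b * y) =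
      ((c a + c b : F) : X.functionField) + ((d a + d b : F) : X.functionField) * y by push_cast; ring, hf]
    simp only [f]; push_cast; ring
  have hfmul : ∀ a b, f (a * b) = f a * f b := fun a b => by
    conv_lhs => rw [hcd a, hcd b, show ((c a : X.functionField) + d a * y) * (c b + d b * y) =
      ((c a * c b + d a * d b * ⟨_, hpF⟩ : F) : X.functionField) + ((c a * d b + d a * c b : F) : X.functionField) * y by
        push_cast; linear_combination ((d a : X.functionField) * d b) * hy2, hf]
    simp only [f]; push_cast; linear_combination -((d a : X.functionField) * d b) * hy2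
  have hfk : ∀ a : F, f a = a := fun a => by
    have := hf a 0
    simpa using this
  let φ : X.functionField ≃ₐ[k] X.functionField :=
    { toFun := f
      invFun := f
      left_inv := hff
      right_inv := hff
      map_mul' := hfmul
      map_add' := hfadd
      commutes' := fun r => hfk ⟨_, F.algebraMap_mem r⟩ }
  have hfy : φ y = -y := by
    have := hf 0 1
    simp only [ZeroMemClass.coe_zero, OneMemClass.coe_one, zero_add, one_mul, zero_sub] at this
    exact this
  refine ⟨φ, hfk ⟨t, IntermediateField.mem_adjoin_simple_self k t⟩, hfy, hff, fun h => hy ?_⟩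
  rw [h] at hfy
  change y = -y at hfy
  have h2K : (2 : X.functionField) ≠ 0 := by
    rw [← map_ofNat (algebraMap k X.functionField) 2]; exact (_root_.map_ne_zero _).mpr h2
  have : y = 0 := (mul_eq_zero.1 (show (2 : X.functionField) * y = 0 by linear_combination hfy)).resolve_left h2K
  rw [this]; exact zero_mem _

end Groth.Agent.Hyper24
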