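import Groth.Agent.Hyper24.Pencil
import Groth.Agent.UnivHomeo.Scheme
import Groth.Agent.S1544
import Groth.Agent.SGA3DerLib.SchemeLaws
import Groth.Agent.CurveLib.Completion
import Groth.Agent.H8Lim.BiratNormal
import Mathlib.FieldTheory.SeparablyGenerated

/-!
# Frobenius twists of smooth curves, and separating variables
-/

set_option autoImplicit false
set_option linter.style.haveILetI false
set_option linter.unusedSectionVars false
set_option backward.isDefEq.respectTransparency.types false
set_option maxHeartbeats 1000000

universe u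

open CategoryTheory CategoryTheory.Limits AlgebraicGeometry Opposite TopologicalSpace TensorProduct
open scoped IntermediateField

namespace Groth.Agent.Hyper24

attribute [local instance] Curv2.stalkAlgebra

variable {k : Type u} [Field k] {X : Scheme.{u}} [IsIntegral X] [X.Over (Spec (CommRingCat.of k))]
  [IsProper (X ↘ Spec (CommRingCat.of k))] [Smooth (X ↘ Spec (CommRingCat.of k))]

/-- The function field of a smooth curve has a separating variable. -/
theorem exists_separating_functionField (hdim : topologicalKrullDim X = 1) :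
    ∃ t : X.functionField, Transcendental k t ∧ Algebra.IsSeparable k⟮t⟯ X.functionField := by
  classical
  set K := X.functionField
  haveI : GeometricallyReduced (X ↘ Spec (CommRingCat.of k)) := SGA3DerLib.geometricallyReduced_of_smooth _
  haveI hgr : Algebra.IsGeometricallyReduced k K := (S1544.result k X).1 inferInstance
  haveI hess : Algebra.EssFiniteType k K := by
    have := CurveLib.functionField_fg (k := k) X
    haveI h2 : Algebra.EssFiniteType k (⊤ : IntermediateField k K) := IntermediateField.essFiniteType_iff.mpr this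
    exact Algebra.EssFiniteType.of_surjective (IntermediateField.topEquiv (F := k) (E := K)).toAlgHom
      (AlgEquiv.surjective _)
  have htr : Algebra.trdeg k K = 1 :=
    CurveLib.functionField_trdeg (k := k) X fun x hx => Zeta24.ringKrullDim_stalk_closed k hdim hx
  obtain ⟨s, hs, hsep⟩ : ∃ s : Finset K, IsTranscendenceBasis k ((↑) : s → K) ∧
      Algebra.IsSeparable (IntermediateField.adjoin k (s : Set K)) K := by
    obtain _ | ⟨p, hp, hpk⟩ := CharP.exists' k
    · exact exists_isTranscendenceBasis_and_isSeparable_of_perfectField k K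
    haveI : ExpChar k p := .prime hp.out
    refine exists_isTranscendenceBasis_and_isSeparable_of_linearIndepOn_pow_of_essFiniteType p hp.out fun s hs => ?_
    let Ω := AlgebraicClosure k
    haveI : CharP (Ω ⊗[k] K) p :=
      charP_of_injective_ringHom (FaithfulSMul.algebraMap_injective k (Ω ⊗[k] K)) p
    rw [LinearIndepOn, Fintype.linearIndependent_iff]
    intro c hc i
    choose r hr using fun j : (s : Set K) => IsAlgClosed.exists_pow_nat_eq (algebraMap k Ω (c j)) hp.out.pos
    let x : Ω ⊗[k] K := ∑ j : (s : Set K), r j ⊗ₜ[k] (j : K)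
    have hxp : x ^ p = 0 := by
      rw [sum_pow_char]
      calc ∑ j : (s : Set K), (r j ⊗ₜ[k] (j : K)) ^ p
          = ∑ j : (s : Set K), (1 : Ω) ⊗ₜ[k] (c j • (j : K) ^ p) := by
            refine Finset.sum_congr rfl fun j _ => ?_
            rw [Algebra.TensorProduct.tmul_pow, hr, Algebra.algebraMap_eq_smul_one, TensorProduct.smul_tmul]
        _ = 0 := by rw [← TensorProduct.tmul_sum, hc, TensorProduct.tmul_zero]
    haveI := hgr.isReduced_algebraicClosure_tensorProduct
    have hx : x = 0 := IsReduced.eq_zero _ ⟨p, hxp⟩
    have hr0 : r i = 0 := by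
      let B := Module.Basis.extend (hs : LinearIndepOn k _root_.id (s : Set K))
      have hB : ∀ j : (s : Set K), ∃ e, B e = (j : K) ∧ (e : K) = j := fun j =>
        ⟨⟨j, LinearIndepOn.subset_extend (hs : LinearIndepOn k _root_.id (s : Set K)) _ j.2⟩,
          Module.Basis.extend_apply_self _ _, rfl⟩
      choose e he he' using hB
      let f : K →ₗ[k] k := B.coord (e i)
      have h := congrArg ((TensorProduct.rid k Ω).toLinearMap ∘ₗ f.lTensor Ω) hx
      rw [map_zero, map_sum] at h
      rw [Finset.sum_eq_single i (fun j _ hji => ?_) (by simp)] at h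
      · simpa [f, ← he i] using h
      · have hne : e j ≠ e i := fun h' => hji (Subtype.ext (by rw [← he' j, h', he' i]))
        simp [f, ← he j, hne]
    have := hr i
    rw [hr0, zero_pow hp.out.ne_zero] at this
    exact (map_eq_zero_iff _ (RingHom.injective _)).1 this.symm
  have hcard : s.card = 1 := by
    have h := hs.cardinalMk_eq_trdeg
    rw [htr, Cardinal.mk_fintype, Fintype.card_coe] at h
    exact_mod_cast h
  obtain ⟨y, rfl⟩ := Finset.card_eq_one.mp hcard
  rw [Finset.coe_singleton] at hsep
  exact ⟨y, hs.1.transcendental ⟨y, Finset.mem_singleton_self y⟩, hsep⟩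

variable (p : ℕ) [Fact p.Prime] [ExpChar k p]

/-- The morphism induced by an iterate of Frobenius of the ground field. -/
noncomputable abbrev frk (k : Type u) [Field k] [ExpChar k p] (r : ℕ) :
    Spec (CommRingCat.of k) ⟶ Spec (CommRingCat.of k) :=
  Spec.map (CommRingCat.ofHom (iterateFrobenius k p r))

/-- The twist of a smooth proper integral curve by Frobenius. -/
theorem twist_props (hdim : topologicalKrullDim X = 1) (r : ℕ) :
    IsHomeomorph (pullback.fst (X ↘ Spec (CommRingCat.of k)) (frk p k r)) ∧
    IsIntegral (pullback (X ↘ Spec (CommRingCat.of k)) (frk p k r)) ∧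
    topologicalKrullDim (↑(pullback (X ↘ Spec (CommRingCat.of k)) (frk p k r)) : Type u) = 1 := by
  let φ := iterateFrobenius k p r
  have hp : p.Prime := Fact.out
  have hpow : ∀ b : k, b ^ p ^ r = φ b := fun b => (iterateFrobenius_def p r b).symm
  have hint : φ.IsIntegral := fun b => ⟨Polynomial.X ^ p ^ r - Polynomial.C b,
      Polynomial.monic_X_pow_sub_C b (pow_ne_zero _ hp.ne_zero), by simp [hpow]⟩
  have hrad : UnivHomeo.Rad φ := fun K _ g₁ g₂ hg => RingHom.ext fun b => by
    haveI : ExpChar K p := expChar_of_injective_ringHom g₁.injective p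
    have h : g₁ b ^ p ^ r = g₂ b ^ p ^ r := by
      rw [← map_pow, ← map_pow, hpow]
      exact congrArg (fun ψ : k →+* K => ψ b) hg
    exact iterateFrobenius_inj K p r (by rw [iterateFrobenius_def, iterateFrobenius_def, h])
  haveI : IsIntegralHom (frk p k r) := (UnivHomeo.isIntegralHom_iff φ).2 hint
  haveI : UniversallyInjective (frk p k r) := (UnivHomeo.rad_iff φ).1 hrad
  haveI : Surjective (frk p k r) := UnivHomeo.surjective_of_ker_le φ hint
    (((RingHom.injective_iff_ker_eq_bot φ).1 φ.injective).trans_le bot_le)
  set π := pullback.fst (X ↘ Spec (CommRingCat.of k)) (frk p k r)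
  haveI : IsIntegralHom π := MorphismProperty.pullback_fst _ _ inferInstance
  haveI : UniversallyInjective π := MorphismProperty.pullback_fst _ _ inferInstance
  haveI : Surjective π := MorphismProperty.pullback_fst _ _ inferInstance
  have hhomeo : IsHomeomorph π := isHomeomorph_iff_continuous_isClosedMap_bijective.2
    ⟨π.continuous, π.isClosedMap, π.injective, π.surjective⟩
  haveI : IrreducibleSpace (↑(pullback (X ↘ Spec (CommRingCat.of k)) (frk p k r)) : Type u) := by
    refine (irreducibleSpace_def _).2 ?_
    have := (IrreducibleSpace.isIrreducible_univ X).image (hhomeo.homeomorph π).symm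
      (hhomeo.homeomorph π).symm.continuous.continuousOn
    rwa [Set.image_univ, EquivLike.range_eq_univ] at this
  haveI : Smooth (pullback.snd (X ↘ Spec (CommRingCat.of k)) (frk p k r)) := MorphismProperty.pullback_snd _ _ inferInstance
  haveI : IsReduced (pullback (X ↘ Spec (CommRingCat.of k)) (frk p k r)) := by
    haveI : GeometricallyReduced (pullback.snd (X ↘ Spec (CommRingCat.of k)) (frk p k r)) :=
      SGA3DerLib.geometricallyReduced_of_smooth _
    exact GeometricallyReduced.geometrically_isReduced (f := pullback.snd (X ↘ Spec (CommRingCat.of k)) (frk p k r))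
      (𝟙 _) (𝟙 _) _ (IsPullback.id_horiz _)
  exact ⟨hhomeo, isIntegral_of_irreducibleSpace_of_isReduced _,
    (hhomeo.topologicalKrullDim_eq _).trans hdim⟩

/-- The function field of the twist is `k(K^q)`. -/
theorem exists_twist_algHom (hdim : topologicalKrullDim X = 1) (r : ℕ)
    [IsIntegral (pullback (X ↘ Spec (CommRingCat.of k)) (frk p k r))] :
    letI : (pullback (X ↘ Spec (CommRingCat.of k)) (frk p k r)).Over (Spec (CommRingCat.of k)) :=
      ⟨pullback.snd (X ↘ Spec (CommRingCat.of k)) (frk p k r)⟩
    ∃ χ : (pullback (X ↘ Spec (CommRingCat.of k)) (frk p k r)).functionField →ₐ[k]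
        IntermediateField.adjoin k (Set.range fun z : X.functionField => z ^ p ^ r), Function.Surjective χ := by
  let P := pullback (X ↘ Spec (CommRingCat.of k)) (frk p k r)
  letI : P.Over (Spec (CommRingCat.of k)) := ⟨pullback.snd (X ↘ Spec (CommRingCat.of k)) (frk p k r)⟩
  set G := IntermediateField.adjoin k (Set.range fun z : X.functionField => z ^ p ^ r) with hG
  haveI : ExpChar X.functionField p := expChar_of_injective_ringHom (algebraMap k X.functionField).injective p
  let fr : X.functionField →+* G := (iterateFrobenius X.functionField p r).codRestrict G fun z => by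
    rw [iterateFrobenius_def]; exact IntermediateField.subset_adjoin k _ ⟨z, rfl⟩
  let frC : X.presheaf.stalk (genericPoint X) ⟶ CommRingCat.of G := CommRingCat.ofHom fr
  have hcomm : (Spec.map frC ≫ X.fromSpecStalk (genericPoint X)) ≫ (X ↘ Spec (CommRingCat.of k)) =
      Spec.map (CommRingCat.ofHom (algebraMap k G)) ≫ frk p k r := by
    rw [Category.assoc, ← CurveLib.specMap_stalkMap k X (genericPoint X), ← Spec.map_comp, ← Spec.map_comp]
    congr 1
    refine CommRingCat.hom_ext (RingHom.ext fun c => Subtype.ext ?_)
    show iterateFrobenius X.functionField p r (algebraMap k X.functionField c) =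
      ((algebraMap k G (iterateFrobenius k p r c) : G) : X.functionField)
    rw [iterateFrobenius_def, iterateFrobenius_def, ← map_pow]
    rfl
  let m : Spec (CommRingCat.of G) ⟶ P := pullback.lift _ _ hcomm
  obtain ⟨hhomeo, -, -⟩ := twist_props (k := k) (X := X) p hdim r
  let π : P ⟶ X := pullback.fst (X ↘ Spec (CommRingCat.of k)) (frk p k r)
  have eπ : π (genericPoint P) = genericPoint X :=
    (((genericPoint_spec P).image hhomeo.continuous).eq (by
      rw [Set.image_univ, hhomeo.surjective.range_eq, closure_univ]; exact genericPoint_spec X))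
  have hm : m (IsLocalRing.closedPoint G) = genericPoint P := hhomeo.injective (by
    show π (m _) = π _
    rw [eπ, ← Scheme.Hom.comp_apply, show m ≫ π = _ from pullback.lift_fst _ _ hcomm, Scheme.Hom.comp_apply,
      show (Spec.map frC) (IsLocalRing.closedPoint G) = IsLocalRing.closedPoint (X.presheaf.stalk (genericPoint X))
        from Subsingleton.elim (α := PrimeSpectrum X.functionField) _ _, Scheme.fromSpecStalk_closedPoint])
  let χ : P.presheaf.stalk (genericPoint P) ⟶ CommRingCat.of G :=
    P.presheaf.stalkSpecializes (specializes_of_eq hm) ≫ Scheme.stalkClosedPointTo m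
  have hχ : Spec.map χ ≫ P.fromSpecStalk (genericPoint P) = m := by
    rw [Spec.map_comp, Category.assoc, Scheme.SpecMap_stalkSpecializes_fromSpecStalk]
    exact Scheme.Spec_stalkClosedPointTo_fromSpecStalk m
  have hcst : ∀ c, χ.hom (algebraMap k P.functionField c) = algebraMap k G c := fun c => by
    have h : CommRingCat.ofHom (Curv2.stalkMap k P (genericPoint P)) ≫ χ = CommRingCat.ofHom (algebraMap k G) := by
      refine Spec.map_injective ?_
      rw [Spec.map_comp, CurveLib.specMap_stalkMap k P (genericPoint P), ← Category.assoc, hχ]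
      exact pullback.lift_snd _ _ hcomm
    exact congrArg (fun w : CommRingCat.of k ⟶ CommRingCat.of G => w.hom c) h
  have hpowmem : ∀ z, χ.hom (ffMap π eπ z) = fr z := fun z => by
    have h : CommRingCat.ofHom (ffMap π eπ) ≫ χ = frC := by
      refine Spec.map_injective ?_
      rw [Spec.map_comp, ← cancel_mono (X.fromSpecStalk (genericPoint X)), Category.assoc,
        ← fromSpecStalk_comp_ffMap π eπ, ← Category.assoc, hχ]
      exact pullback.lift_fst _ _ hcomm
    exact congrArg (fun w : X.presheaf.stalk (genericPoint X) ⟶ CommRingCat.of G => w.hom z) h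
  let χ' : P.functionField →ₐ[k] G := { χ.hom with commutes' := hcst }
  refine ⟨χ', fun g => ?_⟩
  have hle : G ≤ (G.val.comp χ').fieldRange := IntermediateField.adjoin_le_iff.2 (by
    rintro _ ⟨z, rfl⟩
    exact ⟨ffMap π eπ z, (congrArg Subtype.val (hpowmem z)).trans (iterateFrobenius_def p r z)⟩)
  obtain ⟨w, hw⟩ := hle g.2
  exact ⟨w, Subtype.ext hw⟩

/-- A birational morphism from a proper curve onto a normal one is an isomorphism. -/
theorem isIso_of_bijective_ffMap {P Y : Scheme.{u}} [IsIntegral P] [IsIntegral Y]
    [P.Over (Spec (CommRingCat.of k))] [Y.Over (Spec (CommRingCat.of k))]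
    [IsProper (P ↘ Spec (CommRingCat.of k))] [IsProper (Y ↘ Spec (CommRingCat.of k))]
    (hdP : topologicalKrullDim P = 1) (hdY : topologicalKrullDim Y = 1) (hN : Pi1.IsNormalScheme Y) (σ : P ⟶ Y)
    (hσ : σ ≫ (Y ↘ Spec (CommRingCat.of k)) = P ↘ Spec (CommRingCat.of k))
    (e : σ (genericPoint P) = genericPoint Y) (hbij : Function.Bijective (ffMap σ e)) : IsIso σ := by
  haveI : IsProper σ := by
    have : IsProper (σ ≫ (Y ↘ Spec (CommRingCat.of k))) := by rw [hσ]; infer_instance
    exact IsProper.of_comp σ (Y ↘ Spec (CommRingCat.of k))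
  haveI : IsLocallyNoetherian P := CurveRR24.isLocallyNoetherian_of_proper k (X := P)
  haveI : CompactSpace P := QuasiCompact.compactSpace_of_compactSpace (P ↘ Spec (CommRingCat.of k))
  haveI : LocallyQuasiFinite σ := LocallyQuasiFinite.of_finite_preimage_singleton σ fun y =>
    CurvesLib24.finite_preimage_singleton hdP.le hdY.le σ (CurvesLib24.not_isClosed_genericPoint hdY) e y
  have hbir : IsIso (σ.stalkMap (genericPoint P)) := by
    haveI : IsIso (Y.presheaf.stalkSpecializes (specializes_of_eq e)) :=
      (Y.presheaf.stalkCongr (.of_eq e)).isIso_inv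
    haveI : IsIso (Y.presheaf.stalkSpecializes (specializes_of_eq e) ≫ σ.stalkMap (genericPoint P)) :=
      (ConcreteCategory.isIso_iff_bijective _).2 hbij
    exact IsIso.of_isIso_comp_left (Y.presheaf.stalkSpecializes (specializes_of_eq e)) _
  haveI := H8Lim.isLocalIso_of_birational (fun y => (hN y).2) σ e hbir
  haveI := H8Lim.isOpenImmersion_of_isLocalIso σ
  haveI : Surjective σ := ⟨fun y => by
    have hcl : IsClosed (Set.range σ) := σ.isClosedMap.isClosed_range
    exact ((genericPoint_specializes y).mem_closed hcl ⟨genericPoint P, e⟩)⟩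
  exact (isIso_iff_isOpenImmersion_and_surjective σ).2 ⟨inferInstance, inferInstance⟩

end Groth.Agent.Hyper24
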