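import Groth.Agent.Hyper24.Fixed
import Groth.Agent.FF.InvolutionOrbits
import Groth.Agent.MorProj.FinFree
import Groth.Agent.AbCubeLib.FiniteDegree

/-!
# Function field maps of covers of the projective line; comparing covers with the same subfield
-/

set_option autoImplicit false
set_option linter.style.haveILetI false
set_option backward.isDefEq.respectTransparency.types false

universe u

open CategoryTheory CategoryTheory.Limits AlgebraicGeometry Opposite TopologicalSpace Polynomial
open Groth.Agent.Coherent Groth.Agent.CurveRR24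

namespace Groth.Agent.Hyper24

attribute [local instance] Curv2.stalkAlgebra

section General

variable {X Y Z : Scheme.{u}} [IsIntegral X] [IsIntegral Y] [IsIntegral Z]

/-- The action of a dominant morphism on function fields. -/
noncomputable def ffMap (h : X ⟶ Y) (e : h (genericPoint X) = genericPoint Y) : Y.functionField →+* X.functionField :=
  (Y.presheaf.stalkSpecializes (specializes_of_eq e) ≫ h.stalkMap (genericPoint X)).hom

theorem ffMap_germ (h : X ⟶ Y) (e : h (genericPoint X) = genericPoint Y) {W : Y.Opens} (hW : genericPoint Y ∈ W)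
    (a : Γ(Y, W)) (hW' : genericPoint X ∈ h ⁻¹ᵁ W) :
    ffMap h e (Y.presheaf.germ W _ hW a) = X.presheaf.germ (h ⁻¹ᵁ W) _ hW' (h.app W a) := by
  show h.stalkMap (genericPoint X) (Y.presheaf.stalkSpecializes (specializes_of_eq e) (Y.presheaf.germ W _ hW a)) = _
  rw [show Y.presheaf.stalkSpecializes (specializes_of_eq e) (Y.presheaf.germ W _ hW a) =
      Y.presheaf.germ W (h (genericPoint X)) hW' a from
    ConcreteCategory.congr_hom (TopCat.Presheaf.germ_stalkSpecializes Y.presheaf hW (specializes_of_eq e)) a]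
  exact Scheme.Hom.germ_stalkMap_apply h W _ hW' a

theorem ffMap_self (σ : X ⟶ X) (e : σ (genericPoint X) = genericPoint X) : ffMap σ e = genMap σ e := rfl

theorem ffMap_comp_apply (g : X ⟶ Y) (h : Y ⟶ Z) (eg : g (genericPoint X) = genericPoint Y)
    (eh : h (genericPoint Y) = genericPoint Z) (e : (g ≫ h) (genericPoint X) = genericPoint Z) (z : Z.functionField) :
    ffMap (g ≫ h) e z = ffMap g eg (ffMap h eh z) := by
  obtain ⟨W, hW, a, rfl⟩ := Z.presheaf.exists_germ_eq z
  have h1 : genericPoint Y ∈ h ⁻¹ᵁ W := by show h (genericPoint Y) ∈ W; rw [eh]; exact hW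
  have h2 : genericPoint X ∈ g ⁻¹ᵁ (h ⁻¹ᵁ W) := by show g (genericPoint X) ∈ h ⁻¹ᵁ W; rw [eg]; exact h1
  rw [ffMap_germ (g ≫ h) e hW a h2, ffMap_germ h eh hW a h1, ffMap_germ g eg h1 _ h2]
  rfl

theorem fromSpecStalk_comp_ffMap (h : X ⟶ Y) (e : h (genericPoint X) = genericPoint Y) :
    X.fromSpecStalk (genericPoint X) ≫ h =
      Spec.map (CommRingCat.ofHom (ffMap h e)) ≫ Y.fromSpecStalk (genericPoint Y) := by
  rw [ffMap, CommRingCat.ofHom_hom, Spec.map_comp, Category.assoc, Scheme.SpecMap_stalkSpecializes_fromSpecStalk,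
    Scheme.SpecMap_stalkMap_fromSpecStalk]

/-- Morphisms to a separated scheme are determined by their action on function fields. -/
theorem hom_ext_ffMap [Y.IsSeparated] (g h : X ⟶ Y) (eg : g (genericPoint X) = genericPoint Y)
    (eh : h (genericPoint X) = genericPoint Y) (heq : ∀ z, ffMap g eg z = ffMap h eh z) : g = h := by
  haveI : IsDominant (X.fromSpecStalk (genericPoint X)) := by
    rw [isDominant_iff, DenseRange, Scheme.range_fromSpecStalk]
    have hd : Dense ({genericPoint X} : Set X) :=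
      dense_iff_closure_eq.2 (genericPoint_spec X).def
    exact hd.mono fun y hy => by rw [Set.mem_singleton_iff] at hy; subst hy; exact specializes_rfl
  exact ext_of_isDominant (X.fromSpecStalk (genericPoint X))
    (by rw [fromSpecStalk_comp_ffMap g eg, fromSpecStalk_comp_ffMap h eh, RingHom.ext heq])

/-- A finite morphism with locally free direct image of rank `n` has degree `n`. -/
theorem finrank_of_push [IsLocallyNoetherian Y] (g : X ⟶ Y) [IsFinite g] {n : ℕ}
    (hd : FlatMod.IsFinLocFreeOfRank n ((Scheme.Modules.pushforward g).obj (Coh.structureModule X))) :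
    Flat g ∧ ∀ y, Scheme.Hom.finrank g y = n := by
  haveI hfl : Flat g := (MorProj.isFinLocFree_of_isAffineHom g fun x => by
    obtain ⟨U, hx, hU⟩ := hd x; exact ⟨U, n, hx, hU⟩).2.1
  refine ⟨hfl, fun y => ?_⟩
  obtain ⟨U, hU, ⟨e⟩⟩ := hd (genericPoint Y)
  obtain ⟨W, hW, hpW, hWU⟩ := exists_isAffineOpen_mem_and_subset (x := genericPoint Y) (U := U) hU
  obtain ⟨b⟩ := Props12.exists_basis_sections e hWU
  have : Nonempty W := ⟨⟨_, hpW⟩⟩
  have hV : IsAffineOpen (g ⁻¹ᵁ W) := hW.preimage g
  have sq : IsPullback hV.fromSpec (Spec.map (g.app W)) g hW.fromSpec := by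
    refine (IsOpenImmersion.isPullback _ _ _ _ ?_ ?_).flip
    · rw [← IsAffineOpen.SpecMap_appLE_fromSpec g hW hV le_rfl, Scheme.Hom.app_eq_appLE]
    · rw [hW.opensRange_fromSpec, hV.opensRange_fromSpec]
  have : LocallyOfFinitePresentation g := CohBC.locallyOfFinitePresentation_of_isLocallyNoetherian g
  letI := (g.app W).hom.toAlgebra
  have hfin : Module.Finite Γ(Y, W) Γ(X, g ⁻¹ᵁ W) := IsFinite.finite_app g W hW
  have hfl' : Flat (Spec.map (g.app W)) := MorphismProperty.of_isPullback (P := @Flat) sq hfl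
  have : Module.Flat Γ(Y, W) Γ(X, g ⁻¹ᵁ W) := (RingHom.flat_algebraMap_iff).1 (Flat.SpecMap_iff.1 hfl')
  let b' : Module.Basis (Fin n) Γ(Y, W) Γ(X, g ⁻¹ᵁ W) :=
    b.map { toFun := fun x => x, invFun := fun x => x, map_add' := fun _ _ => rfl, map_smul' := fun _ _ => rfl }
  have : Module.Free Γ(Y, W) Γ(X, g ⁻¹ᵁ W) := Module.Free.of_basis b'
  rw [g.isLocallyConstant_finrank.apply_eq_of_preconnectedSpace y (hW.fromSpec (hW.primeIdealOf ⟨_, hpW⟩))]
  rw [← Scheme.Hom.finrank_of_isPullback _ _ _ _ sq]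
  refine (Scheme.Hom.finrank_SpecMap_algebraMap Γ(Y, W) Γ(X, g ⁻¹ᵁ W) _).trans ?_
  rw [Module.rankAtStalk_eq_finrank_of_free]
  show Module.finrank Γ(Y, W) Γ(X, g ⁻¹ᵁ W) = _
  rw [Module.finrank_eq_card_basis b', Fintype.card_fin]

end General

variable {k : Type u} [Field k] {X : Scheme.{u}} [IsIntegral X] [X.Over (Spec (CommRingCat.of k))]

/-- The subfield of a finite cover of the projective line. -/
theorem exists_coord [IsProper (X ↘ Spec (CommRingCat.of k))] (hdim : topologicalKrullDim X = 1)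
    [IsIntegral (CohB1.ProjSpace 1 k)] (h : X ⟶ CohB1.ProjSpace 1 k)
    (hh : h ≫ CohB1.ProjSpace.toSpec 1 k = X ↘ Spec (CommRingCat.of k))
    [IsFinite h] [Flat h] {n : ℕ} (hn : 0 < n) (hr : ∀ y, Scheme.Hom.finrank h y = n)
    (e : h (genericPoint X) = genericPoint (CohB1.ProjSpace 1 k)) :
    ∃ t : X.functionField, Transcendental k t ∧
      Module.finrank (IntermediateField.adjoin k ({t} : Set X.functionField)) X.functionField = n ∧
      ∀ z, z ∈ IntermediateField.adjoin k ({t} : Set X.functionField) ↔ ∃ w, ffMap h e w = z := by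
  let V := EmbLib24.chart 1 k 0
  let U := h ⁻¹ᵁ V
  have hmem : genericPoint X ∈ U := map_generic_mem h hdim 0
  have hmemV : genericPoint (CohB1.ProjSpace 1 k) ∈ V := by rw [← e]; exact hmem
  haveI : Nonempty U := ⟨⟨_, hmem⟩⟩
  haveI : Nonempty V := ⟨⟨_, hmemV⟩⟩
  have hU : IsAffineOpen U := (EmbLib24.isAffineOpen_chart 1 k 0).preimage h
  haveI := functionField_isFractionRing_of_isAffineOpen X U hU
  haveI := functionField_isFractionRing_of_isAffineOpen (CohB1.ProjSpace 1 k) V (EmbLib24.isAffineOpen_chart 1 k 0)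
  let γ : Γ(X, U) →+* X.functionField := algebraMap Γ(X, U) X.functionField
  let t := γ (pullChart h 0 Polynomial.X)
  have hC : ∀ c : k, γ (pullChart h 0 (Polynomial.C c)) = algebraMap k X.functionField c := fun c => by
    rw [pullChart_C hh]
    exact EmbLib24.germ_gl _ hmem c
  have hπ : ∀ a, γ (pullChart h 0 a) = aeval t a := fun a => by
    refine RingHom.congr_fun (show γ.comp (pullChart h 0) = (aeval t : k[X] →ₐ[k] X.functionField).toRingHom from
      Polynomial.ringHom_ext (fun c => ?_) ?_) a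
    · show γ (pullChart h 0 (Polynomial.C c)) = aeval t (Polynomial.C c)
      rw [aeval_C, hC]
    · show γ (pullChart h 0 Polynomial.X) = aeval t Polynomial.X
      rw [aeval_X]
  let algB : Algebra k[X] Γ(X, U) := (pullChart h 0).toAlgebra
  obtain ⟨hrn, hfree, hfin⟩ := finrank_pullChart hr 0
  haveI := hfree; haveI := hfin
  haveI : Nontrivial Γ(X, U) := Module.nontrivial_of_finrank_pos (R := k[X]) (by rw [hrn]; exact hn)
  have hinjB : Function.Injective (pullChart h 0) := FaithfulSMul.algebraMap_injective k[X] Γ(X, U)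
  have hinj : Function.Injective (aeval t : k[X] →ₐ[k] X.functionField) := fun a b hab =>
    hinjB ((IsFractionRing.injective Γ(X, U) X.functionField) (by
      change γ _ = γ _; rw [hπ, hπ]; exact hab))
  have htr : Transcendental k t := transcendental_iff_injective.mpr hinj
  set F := IntermediateField.adjoin k ({t} : Set X.functionField)
  have htm : t ∈ F := IntermediateField.mem_adjoin_simple_self k t
  have hval : ∀ a, ((aeval (⟨t, htm⟩ : F) a : F) : X.functionField) = aeval t a := fun a =>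
    (Polynomial.aeval_algHom_apply F.val _ a).symm
  let algF : Algebra k[X] F := (aeval (⟨t, htm⟩ : F)).toRingHom.toAlgebra
  let algK : Algebra k[X] X.functionField := (aeval t : k[X] →ₐ[k] X.functionField).toRingHom.toAlgebra
  haveI : IsScalarTower k[X] F X.functionField := IsScalarTower.of_algebraMap_eq fun a => (hval a).symm
  haveI : IsScalarTower k[X] Γ(X, U) X.functionField := IsScalarTower.of_algebraMap_eq fun a => (hπ a).symm
  haveI : FaithfulSMul k[X] F := (faithfulSMul_iff_algebraMap_injective _ _).mpr fun a b hab => hinj (by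
    rw [← hval, ← hval]; exact congrArg Subtype.val hab)
  haveI : IsFractionRing k[X] F := by
    refine IsFractionRing.of_field _ _ fun z => ?_
    obtain ⟨r, s, hz⟩ := (IntermediateField.mem_adjoin_simple_iff (F := k) (α := t) (z : X.functionField)).mp z.2
    refine ⟨r, s, Subtype.ext ?_⟩
    change (z : X.functionField) = ((aeval (⟨t, htm⟩ : F) r / aeval (⟨t, htm⟩ : F) s : F) : X.functionField)
    push_cast
    rw [hval, hval, hz]
  haveI : Algebra.IsAlgebraic k[X] Γ(X, U) := Algebra.IsIntegral.isAlgebraic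
  refine ⟨t, htr, ?_, fun z => ⟨fun hz => ?_, ?_⟩⟩
  · rw [IsFractionRing.finrank_eq k[X] F Γ(X, U) X.functionField, hrn]
  · obtain ⟨r, s, rfl⟩ := (IntermediateField.mem_adjoin_simple_iff k _).1 hz
    refine ⟨algebraMap _ (CohB1.ProjSpace 1 k).functionField (P1SC24.chartRing k 0 r) /
      algebraMap _ (CohB1.ProjSpace 1 k).functionField (P1SC24.chartRing k 0 s), ?_⟩
    rw [map_div₀, ← hπ, ← hπ]
    exact congrArg₂ (· / ·) (ffMap_germ h e hmemV _ hmem) (ffMap_germ h e hmemV _ hmem)
  · rintro ⟨w, rfl⟩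
    obtain ⟨a, b, -, rfl⟩ := IsFractionRing.div_surjective Γ(CohB1.ProjSpace 1 k, V) w
    obtain ⟨r, rfl⟩ := (P1SC24.bijective_chartRing k 0).2 a
    obtain ⟨s, rfl⟩ := (P1SC24.bijective_chartRing k 0).2 b
    refine (IntermediateField.mem_adjoin_simple_iff k _).2 ⟨r, s, ?_⟩
    rw [map_div₀, ← hπ, ← hπ]
    exact congrArg₂ (· / ·) (ffMap_germ h e hmemV _ hmem) (ffMap_germ h e hmemV _ hmem)


section Compare

variable {P Q : Scheme.{u}} [IsIntegral P] [IsIntegral Q] [P.Over (Spec (CommRingCat.of k))]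
  [Q.Over (Spec (CommRingCat.of k))]

/-- Maps over the ground field fix constants. -/
theorem ffMap_algebraMap (h : P ⟶ Q) (e : h (genericPoint P) = genericPoint Q)
    (hh : h ≫ (Q ↘ Spec (CommRingCat.of k)) = P ↘ Spec (CommRingCat.of k)) (c : k) :
    ffMap h e (algebraMap k Q.functionField c) = algebraMap k P.functionField c := by
  let a : Γ(Spec (CommRingCat.of k), ⊤) := (Scheme.ΓSpecIso (CommRingCat.of k)).inv c
  have key : ∀ (p : P ⟶ Spec (CommRingCat.of k)), h ≫ (Q ↘ Spec (CommRingCat.of k)) = p →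
      ffMap h e (Q.presheaf.germ ((Q ↘ Spec (CommRingCat.of k)) ⁻¹ᵁ ⊤) (genericPoint Q) trivial ((Q ↘ Spec (CommRingCat.of k)).app ⊤ a)) =
        P.presheaf.germ (p ⁻¹ᵁ ⊤) (genericPoint P) trivial (p.app ⊤ a) := by
    rintro _ rfl
    exact ffMap_germ h e (W := (Q ↘ Spec (CommRingCat.of k)) ⁻¹ᵁ ⊤) trivial _ trivial
  exact key _ hh

/-- Function field maps over the ground field come from morphisms. -/
theorem exists_hom_of_algHom [IsProper (Q ↘ Spec (CommRingCat.of k))] [Smooth (P ↘ Spec (CommRingCat.of k))]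
    [IsProper (P ↘ Spec (CommRingCat.of k))]
    (hdimP : topologicalKrullDim P = 1) (φ : Q.functionField →ₐ[k] P.functionField) :
    ∃ (σ : P ⟶ Q) (e : σ (genericPoint P) = genericPoint Q),
      σ ≫ (Q ↘ Spec (CommRingCat.of k)) = P ↘ Spec (CommRingCat.of k) ∧ ∀ z, ffMap σ e z = φ z := by
  let p := P ↘ Spec (CommRingCat.of k)
  let q := Q ↘ Spec (CommRingCat.of k)
  let φ' : Q.presheaf.stalk (genericPoint Q) ⟶ P.presheaf.stalk (genericPoint P) :=
    CommRingCat.ofHom (φ : Q.functionField →+* P.functionField)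
  have hψ : (Spec.map φ' ≫ Q.fromSpecStalk (genericPoint Q)) ≫ q = P.fromSpecStalk (genericPoint P) ≫ p := by
    rw [Category.assoc, ← CurveLib.specMap_stalkMap k P (genericPoint P), ← CurveLib.specMap_stalkMap k Q (genericPoint Q),
      ← Spec.map_comp]
    congr 1
    refine CommRingCat.hom_ext (RingHom.ext fun c => ?_)
    exact φ.commutes c
  obtain ⟨U, hU, f, hf1, hf2⟩ := spread_out_of_isGermInjective' p q _ hψ
  have hUd : Dense (U : Set P) := U.isOpen.dense ⟨_, hU⟩
  obtain ⟨U', hle, hU', g, hg, hgf⟩ := NeronLib.exists_extension_codim_one (NeronLib.smoothRegular_spec k) p q U hUd f hf2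
  have htop : U' = ⊤ := top_le_iff.1 fun x _ =>
    hU' x ((CurvesLib24.stalk_dim_le_topologicalKrullDim x).trans hdimP.le)
  subst htop
  refine ⟨P.topIso.inv ≫ g, ?_⟩
  set σ := P.topIso.inv ≫ g
  have hσι : U.ι ≫ σ = f := by
    rw [← hgf, ← Category.assoc]
    congr 1
    rw [← cancel_mono (⊤ : P.Opens).ι, Category.assoc, P.homOfLE_ι, show P.topIso.inv ≫ (⊤ : P.Opens).ι = 𝟙 P from
      P.topIso.inv_hom_id, Category.comp_id]
  have hkey : P.fromSpecStalk (genericPoint P) ≫ σ = Spec.map φ' ≫ Q.fromSpecStalk (genericPoint Q) := by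
    rw [hf1, ← hσι, ← Category.assoc (U.fromSpecStalkOfMem _ hU), Scheme.Opens.fromSpecStalkOfMem_ι]
  have e : σ (genericPoint P) = genericPoint Q := by
    have h := congrArg (fun m : Spec (P.presheaf.stalk (genericPoint P)) ⟶ Q => m (IsLocalRing.closedPoint _)) hkey
    simp only [Scheme.Hom.comp_apply, Scheme.fromSpecStalk_closedPoint] at h
    rw [h, show (Spec.map φ') (IsLocalRing.closedPoint _) = IsLocalRing.closedPoint (Q.presheaf.stalk (genericPoint Q))
      from Subsingleton.elim (α := PrimeSpectrum Q.functionField) _ _, Scheme.fromSpecStalk_closedPoint]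
  refine ⟨e, ?_, fun z => ?_⟩
  · show (P.topIso.inv ≫ g) ≫ q = p
    rw [Category.assoc, hg, ← Category.assoc, show P.topIso.inv ≫ (⊤ : P.Opens).ι = 𝟙 P from P.topIso.inv_hom_id,
      Category.id_comp]
  · have h2 : Spec.map (CommRingCat.ofHom (ffMap σ e)) = Spec.map φ' := by
      rw [← cancel_mono (Q.fromSpecStalk (genericPoint Q)), ← hkey, fromSpecStalk_comp_ffMap σ e]
    exact congrArg (fun m : Q.presheaf.stalk (genericPoint Q) ⟶ P.presheaf.stalk (genericPoint P) => m.hom z)
      (Spec.map_injective h2)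

/-- Covers with the same subfield differ by an isomorphism of the targets. -/
theorem exists_iso_of_range_eq [IsProper (P ↘ Spec (CommRingCat.of k))]
    [Smooth (P ↘ Spec (CommRingCat.of k))] [IsProper (Q ↘ Spec (CommRingCat.of k))]
    [Smooth (Q ↘ Spec (CommRingCat.of k))] (hdimP : topologicalKrullDim P = 1) (hdimQ : topologicalKrullDim Q = 1)
    (f : X ⟶ P) (g : X ⟶ Q) (ef : f (genericPoint X) = genericPoint P) (eg : g (genericPoint X) = genericPoint Q)
    (hf : f ≫ (P ↘ Spec (CommRingCat.of k)) = X ↘ Spec (CommRingCat.of k))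
    (hg : g ≫ (Q ↘ Spec (CommRingCat.of k)) = X ↘ Spec (CommRingCat.of k))
    (hrange : ∀ z, (∃ w, ffMap f ef w = z) ↔ ∃ w, ffMap g eg w = z) :
    ∃ τ : P ≅ Q, τ.hom ≫ (Q ↘ Spec (CommRingCat.of k)) = P ↘ Spec (CommRingCat.of k) ∧ f ≫ τ.hom = g := by
  have hinjf : Function.Injective (ffMap f ef) := (ffMap f ef).injective
  have hinjg : Function.Injective (ffMap g eg) := (ffMap g eg).injective
  choose a ha using fun w => (hrange _).2 ⟨w, rfl⟩
  choose b hb using fun w => (hrange _).1 ⟨w, rfl⟩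
  have hba : ∀ w, b (a w) = w := fun w => hinjg (by rw [hb, ha])
  have hab : ∀ w, a (b w) = w := fun w => hinjf (by rw [ha, hb])
  let φ : Q.functionField →ₐ[k] P.functionField :=
    { toFun := a
      map_one' := hinjf (by rw [ha, map_one, map_one])
      map_mul' := fun x y => hinjf (by rw [ha, map_mul, map_mul, ha, ha])
      map_zero' := hinjf (by rw [ha, map_zero, map_zero])
      map_add' := fun x y => hinjf (by rw [ha, map_add, map_add, ha, ha])
      commutes' := fun c => hinjf (by rw [ha, ffMap_algebraMap f ef hf, ffMap_algebraMap g eg hg]) }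
  let ψ : P.functionField →ₐ[k] Q.functionField :=
    { toFun := b
      map_one' := hinjg (by rw [hb, map_one, map_one])
      map_mul' := fun x y => hinjg (by rw [hb, map_mul, map_mul, hb, hb])
      map_zero' := hinjg (by rw [hb, map_zero, map_zero])
      map_add' := fun x y => hinjg (by rw [hb, map_add, map_add, hb, hb])
      commutes' := fun c => hinjg (by rw [hb, ffMap_algebraMap f ef hf, ffMap_algebraMap g eg hg]) }
  obtain ⟨σ, eσ, hσp, hσ⟩ := exists_hom_of_algHom hdimP φ
  obtain ⟨τ, eτ, hτp, hτ⟩ := exists_hom_of_algHom hdimQ ψ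
  haveI hPs : P.IsSeparated := ⟨by rw [← terminal.comp_from (P ↘ Spec (CommRingCat.of k))]; infer_instance⟩
  haveI hQs : Q.IsSeparated := ⟨by rw [← terminal.comp_from (Q ↘ Spec (CommRingCat.of k))]; infer_instance⟩
  have e1 : (σ ≫ τ) (genericPoint P) = genericPoint P := by rw [Scheme.Hom.comp_apply, eσ, eτ]
  have e2 : (τ ≫ σ) (genericPoint Q) = genericPoint Q := by rw [Scheme.Hom.comp_apply, eτ, eσ]
  have e3 : (f ≫ σ) (genericPoint X) = genericPoint Q := by rw [Scheme.Hom.comp_apply, ef, eσ]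
  have hστ : σ ≫ τ = 𝟙 P := hom_ext_ffMap _ _ e1 rfl fun z => by
    rw [ffMap_comp_apply σ τ eσ eτ e1, hσ, hτ, ffMap_self, genMap_id_apply]
    exact hab z
  have hτσ : τ ≫ σ = 𝟙 Q := hom_ext_ffMap _ _ e2 rfl fun z => by
    rw [ffMap_comp_apply τ σ eτ eσ e2, hτ, hσ, ffMap_self, genMap_id_apply]
    exact hba z
  exact ⟨⟨σ, τ, hστ, hτσ⟩, hσp, hom_ext_ffMap _ _ e3 eg fun z => by
    rw [ffMap_comp_apply f σ ef eσ e3, hσ]; exact ha z⟩

end Compare

end Groth.Agent.Hyper24
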