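import Groth.Agent.Hyper24.FrobTwist
import Groth.Agent.Hyper24.TraceH1
import Groth.Agent.FF.PurelyInsep

/-!
# Targets of purely inseparable maps from smooth curves are Frobenius twists
-/

set_option autoImplicit false
set_option linter.style.haveILetI false
set_option backward.isDefEq.respectTransparency.types false
set_option maxHeartbeats 1000000

universe u

open CategoryTheory CategoryTheory.Limits AlgebraicGeometry

namespace Groth.Agent.Hyper24

attribute [local instance] Curv2.stalkAlgebra

/-- The normal target of a purely inseparable map from a smooth proper curve is a Frobenius twist. -/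
theorem exists_twist_iso (k : Type u) [Field k] (p : ℕ) [Fact p.Prime] [ExpChar k p] {X Y : Scheme.{u}}
    [X.Over (Spec (CommRingCat.of k))] [Y.Over (Spec (CommRingCat.of k))] [IsIntegral X] [IsIntegral Y]
    [IsProper (X ↘ Spec (CommRingCat.of k))] [IsProper (Y ↘ Spec (CommRingCat.of k))]
    [Smooth (X ↘ Spec (CommRingCat.of k))]
    (hdX : topologicalKrullDim X = 1) (hdY : topologicalKrullDim Y = 1) (hnY : Pi1.IsNormalScheme Y)
    (f : X ⟶ Y) [IsFinite f] (hf : f ≫ (Y ↘ Spec (CommRingCat.of k)) = X ↘ Spec (CommRingCat.of k))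
    (e : f (genericPoint X) = genericPoint Y)
    (hpi : letI := (ffMap f e).toAlgebra; IsPurelyInseparable Y.functionField X.functionField) :
    ∃ (r : ℕ) (i : Y ≅ pullback (X ↘ (Spec (CommRingCat.of k))) (frk p k r)),
      i.hom ≫ pullback.snd (X ↘ (Spec (CommRingCat.of k))) (frk p k r) = Y ↘ (Spec (CommRingCat.of k)) := by
  classical
  haveI : CharP k p := by
    cases ‹ExpChar k p› with
    | zero => exact absurd (Fact.out : (1 : ℕ).Prime) Nat.not_prime_one
    | prime h => infer_instance
  letI := (ffMap f e).toAlgebra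
  haveI := hpi
  haveI : FiniteDimensional Y.functionField X.functionField := finiteDimensional_ffMap f e
  haveI : IsScalarTower k Y.functionField X.functionField :=
    IsScalarTower.of_algebraMap_eq fun c => (ffMap_algebraMap f e hf c).symm
  obtain ⟨t, -, hsep⟩ := exists_separating_functionField (k := k) hdX
  haveI := hsep
  obtain ⟨r, -, hr⟩ := FF.exists_range_eq_adjoin_pow (k := k) (K := Y.functionField) (L := X.functionField) p (t := t)
  obtain ⟨-, hint, hdP⟩ := twist_props (k := k) (X := X) p hdX r
  haveI := hint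
  let P := pullback (X ↘ Spec (CommRingCat.of k)) (frk p k r)
  letI : P.Over (Spec (CommRingCat.of k)) := ⟨pullback.snd (X ↘ Spec (CommRingCat.of k)) (frk p k r)⟩
  haveI : IsProper (P ↘ Spec (CommRingCat.of k)) :=
    MorphismProperty.pullback_snd (P := @IsProper) (X ↘ Spec (CommRingCat.of k)) (frk p k r) inferInstance
  haveI : Smooth (P ↘ Spec (CommRingCat.of k)) :=
    MorphismProperty.pullback_snd (P := @Smooth) (X ↘ Spec (CommRingCat.of k)) (frk p k r) inferInstance
  set G := IntermediateField.adjoin k (Set.range fun z : X.functionField => z ^ p ^ r)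
  obtain ⟨χ, hχ⟩ : ∃ χ : P.functionField →ₐ[k] G, Function.Surjective χ :=
    exists_twist_algHom (k := k) (X := X) p hdX r
  let χe : P.functionField ≃ₐ[k] G := AlgEquiv.ofBijective χ ⟨RingHom.injective χ.toRingHom, hχ⟩
  let γ : Y.functionField →ₐ[k] G := (IsScalarTower.toAlgHom k Y.functionField X.functionField).codRestrict G.toSubalgebra
    fun y => (show _ ∈ G from hr ▸ ⟨y, rfl⟩)
  let α : Y.functionField →ₐ[k] P.functionField := χe.symm.toAlgHom.comp γ
  have hγ : Function.Surjective γ := fun g => by
    obtain ⟨y, hy⟩ := (show (g : X.functionField) ∈ (IsScalarTower.toAlgHom k Y.functionField X.functionField).fieldRange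
      from hr.symm ▸ g.2)
    exact ⟨y, Subtype.ext hy⟩
  obtain ⟨σ, eσ, hσ, hσα⟩ := exists_hom_of_algHom hdP α
  haveI : IsIso σ := isIso_of_bijective_ffMap (k := k) hdP hdY hnY σ hσ eσ
    ⟨RingHom.injective _, fun w => by
      obtain ⟨y, hy⟩ := (χe.symm.surjective.comp hγ) w
      exact ⟨y, (hσα y).trans hy⟩⟩
  refine ⟨r, (asIso σ).symm, ?_⟩
  show inv σ ≫ (P ↘ Spec (CommRingCat.of k)) = _
  rw [IsIso.inv_comp_eq, hσ]

end Groth.Agent.Hyper24
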